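import Cfsg.Agent.Lib.Char.Values
import Cfsg.Agent.Lib.Char.Orthogonality
import Cfsg.Agent.Lib.Misc.Derangement

/-!
# Burnside's argument for a regular abelian subgroup which is the centralizer of its elements

`n = |Ω| = |R|`, `M = N(R)`, `e = |M : R|`, `X` = elements not conjugate into `R \ {1}`,
`π g = |fixedBy Ω g|`.
-/

set_option autoImplicit false

namespace Cfsg.Lib.DG

open Subgroup MulAction

variable {D : Type*} [Group D] [Fintype D]

open Cfsg.Lib.Char
open scoped ComplexConjugate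

omit [Fintype D] in
theorem mem_norm_of {R : Subgroup D} (hc : ∀ x ∈ R, ∀ y ∈ R, Commute x y)
    (hC : ∀ u ∈ R, u ≠ 1 → centralizer ({u} : Set D) ≤ R) {u h : D} (hu : u ∈ R) (u1 : u ≠ 1)
    (e : h * u * h⁻¹ ∈ R) : h ∈ normalizer (R : Set D) := by
  refine mem_normalizer_iff.2 fun r => ⟨fun hr => hC _ e (by simpa using u1)
    (mem_centralizer_singleton_iff.2 ?_), fun hr => hC u hu u1 (mem_centralizer_singleton_iff.2 ?_)⟩
  · exact ((hc r hr u hu).map (MulAut.conj h)).eq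
  · exact (MulAut.conj h).injective (by rw [map_mul, map_mul]; exact (hc _ hr _ e).eq)

/-- TI sum: `R ⊓ R^g ≠ 1` forces `g ∈ N(R)` (`R = C(u)`); count pairs `(g, u)`, `g u g⁻¹ = y`:
each `y` conjugate into `R \ {1}` arises from exactly `|N(R)|` pairs. -/
theorem ti_sum (R : Subgroup D) (hc : ∀ x ∈ R, ∀ y ∈ R, Commute x y)
    (hC : ∀ u ∈ R, u ≠ 1 → centralizer ({u} : Set D) ≤ R) (F : D → ℂ)
    (hF : ∀ g x : D, F (x * g * x⁻¹) = F g) [DecidablePred fun y : D => ∃ u ∈ R, u ≠ 1 ∧ IsConj u y]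
    [DecidablePred fun u : D => u ∈ R ∧ u ≠ 1] :
    (Nat.card (normalizer (R : Set D)) : ℂ) *
        ∑ y ∈ Finset.univ.filter (fun y : D => ∃ u ∈ R, u ≠ 1 ∧ IsConj u y), F y =
      (Nat.card D : ℂ) * ∑ u ∈ Finset.univ.filter (fun u : D => u ∈ R ∧ u ≠ 1), F u := by
  classical
  have k : ∀ g : D, ∑ u ∈ Finset.univ.filter (fun u : D => u ∈ R ∧ u ≠ 1), F u =
      ∑ y : D, if g⁻¹ * y * g ∈ R ∧ g⁻¹ * y * g ≠ 1 then F y else 0 := fun g => by
    rw [Finset.sum_filter, eq_comm, ← Equiv.sum_comp (MulAut.conj g).toEquiv]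
    refine Finset.sum_congr rfl fun u _ => ?_
    simp only [MulEquiv.toEquiv_eq_coe, EquivLike.coe_coe, MulAut.conj_apply, hF]
    simp [mul_assoc]
  rw [Nat.card_eq_fintype_card (α := D), ← nsmul_eq_mul (Fintype.card D), ← Finset.card_univ, ← Finset.sum_const,
    Finset.sum_congr rfl fun g _ => k g, Finset.sum_comm, Finset.sum_filter, Finset.mul_sum]
  refine Finset.sum_congr rfl fun y _ => ?_
  rw [← Finset.sum_filter, Finset.sum_const, nsmul_eq_mul]
  split_ifs with h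
  · obtain ⟨u, hu, u1, e⟩ := h
    obtain ⟨x, rfl⟩ := isConj_iff.1 e
    congr 2
    rw [Nat.card_eq_fintype_card, Fintype.card_subtype]
    refine Finset.card_equiv (Equiv.mulLeft x) fun g => ?_
    simp only [Finset.mem_filter, Finset.mem_univ, true_and, Equiv.coe_mulLeft]
    rw [show (x * g)⁻¹ * (x * u * x⁻¹) * (x * g) = g⁻¹ * u * g⁻¹⁻¹ by group]
    exact ⟨fun h => ⟨(mem_normalizer_iff.1 (inv_mem h) u).1 hu, mt conj_eq_one_iff.1 u1⟩,
      fun h => inv_mem_iff.1 (mem_norm_of hc hC hu u1 h.1)⟩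
  · rw [mul_zero, Finset.filter_eq_empty_iff.2 fun g _ e => h ⟨_, e.1, e.2, isConj_iff.2 ⟨g, by group⟩⟩]
    simp

open Classical in
theorem inner_sum_irr {ι : Type*} [Fintype ι] {ψ : ι → D → ℂ} (h : ∀ i, IsIrrCharacter D (ψ i))
    {μ : D → ℂ} (hμ : IsIrrCharacter D μ) :
    classInner (∑ i, ψ i) μ = ((Finset.univ.filter fun i => ψ i = μ).card : ℂ) := by
  rw [classInner_sum_left, Finset.sum_congr rfl fun i _ => (h i).inner_eq_ite hμ, Finset.sum_boole]

theorem inner_sum_ne {ι : Type*} [Fintype ι] {ψ : ι → D → ℂ} (h : ∀ i, IsIrrCharacter D (ψ i))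
    {μ : D → ℂ} (hμ : IsIrrCharacter D μ) : classInner (∑ i, ψ i) μ ≠ 0 ↔ ∃ i, ψ i = μ := by
  simp [inner_sum_irr h hμ]

theorem exists_sum_lin [IsMulCommutative D] {ψ : D → ℂ} (h : IsCharacter D ψ) {k : ℕ} (hk : ψ 1 = k) :
    ∃ l : Fin k → D →* ℂˣ, ψ = ∑ i, fun g => (l i g : ℂ) := by
  obtain ⟨n, l, h1, h2⟩ := h.exists_sum_hom_of_comm
  obtain rfl : n = k := by exact_mod_cast h1.symm.trans hk
  exact ⟨l, funext fun g => by rw [h2, Finset.sum_apply]⟩

theorem deg_le_inner [IsMulCommutative D] {ψ : D → ℂ} (h : IsCharacter D ψ) {k m : ℕ} (hk : ψ 1 = k)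
    (hm : classInner ψ ψ = m) : k ≤ m := by
  classical
  obtain ⟨l, rfl⟩ := exists_sum_lin h hk
  rw [classInner_sum_right, Finset.sum_congr rfl fun i _ =>
    inner_sum_irr (fun i => isIrrCharacter_hom (l i)) (isIrrCharacter_hom (l i))] at hm
  norm_cast at hm
  rw [← hm]
  refine le_trans (by simp) (Finset.card_nsmul_le_sum Finset.univ _ 1 fun i _ =>
    Finset.card_pos.2 ⟨i, Finset.mem_filter.2 ⟨Finset.mem_univ i, rfl⟩⟩)

/-- A character `ψ ≠ 0` of `D` whose restriction to `R` has no trivial constituent has degree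
`≥ |N(R) : R|`: if `λ ≠ 1` is a (linear) constituent of `ψ|R`, so are the `λ^y`, `y ∈ N(R)`, and
`λ^y = λ^y'` forces `y⁻¹ y' ∈ R` (for `y ∈ N(R) \ R` the map `u ↦ u^y u⁻¹` is injective on `R`,
hence onto). -/
theorem deg_ge (R : Subgroup D) (hc : ∀ x ∈ R, ∀ y ∈ R, Commute x y)
    (hC : ∀ u ∈ R, u ≠ 1 → centralizer ({u} : Set D) ≤ R) {ψ : D → ℂ} (hψ : IsCharacter D ψ)
    {k : ℕ} (hk : ψ 1 = k) (h0 : k ≠ 0) (h1 : ∑ᶠ u : R, ψ u = 0) :
    R.relIndex (normalizer (R : Set D)) ≤ k := by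
  classical
  have : IsMulCommutative R := ⟨⟨fun a b => Subtype.ext (hc _ a.2 _ b.2)⟩⟩
  obtain ⟨l, hl⟩ := exists_sum_lin (hψ.restrict R) hk
  have hi := fun i => isIrrCharacter_hom (l i)
  let i0 : Fin k := ⟨0, Nat.pos_of_ne_zero h0⟩
  have k1 : ∀ y : normalizer (R : Set D), ∃ j, (fun g => (l j g : ℂ)) =
      fun g => (l i0 (R.normalizerMonoidHom y⁻¹ g) : ℂ) := fun y => by
    refine (inner_sum_ne hi ((hi i0).comp_equiv _)).1 ?_
    have := classInner_comp_equiv (R.normalizerMonoidHom y⁻¹) (fun x : R => ψ x) fun g => (l i0 g : ℂ)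
    rw [show (fun x : R => ψ (R.normalizerMonoidHom y⁻¹ x : R)) = fun x : R => ψ x from
      funext fun x => hψ.isClassFunction _ _, hl] at this
    rw [this]
    exact (inner_sum_ne hi (hi i0)).2 ⟨i0, rfl⟩
  choose j hj using k1
  refine (Nat.card_le_card_of_injective (fun q : _ ⧸ R.subgroupOf _ => j q.out) fun q q' e => ?_).trans
    (Nat.card_fin k).le
  rw [← q.out_eq', ← q'.out_eq', QuotientGroup.eq]
  by_contra hz
  refine (inner_sum_ne hi isIrrCharacter_one).2 ⟨i0, funext fun g => ?_⟩ (by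
    rw [← hl, classInner_one_right, ← finsum_eq_sum_of_fintype, h1, mul_zero])
  set z := q.out⁻¹ * q'.out with hz'
  have k2 : ∀ v, l i0 (R.normalizerMonoidHom z v) = l i0 v := fun v => by
    have := congrFun ((hj q.out).symm.trans ((congrArg (fun i g => (l i g : ℂ)) e).trans (hj q'.out)))
      (R.normalizerMonoidHom q'.out v)
    rw [← MulAut.mul_apply, ← MulAut.mul_apply, ← map_mul, ← map_mul, inv_mul_cancel, map_one] at this
    exact Units.ext this
  obtain ⟨v, rfl⟩ := Finite.surjective_of_injective (f := fun v => R.normalizerMonoidHom z v * v⁻¹)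
    (fun a b e => by
      by_contra ab
      refine hz (hC (b⁻¹ * a : R) (b⁻¹ * a).2 (fun e => ab (inv_mul_eq_one.1 (Subtype.ext e)).symm)
        (mem_centralizer_singleton_iff.2 (mul_inv_eq_iff_eq_mul.1 ?_)))
      refine congrArg Subtype.val (show R.normalizerMonoidHom z (b⁻¹ * a) = b⁻¹ * a from ?_)
      rw [map_mul, map_inv, inv_mul_eq_iff_eq_mul, ← mul_assoc, ← mul_inv_eq_iff_eq_mul]
      exact e) g
  simp [k2]

theorem sum_norm_comb {α β : D → ℂ} {p q : ℕ} (h1 : classInner α α = p) (h2 : classInner β β = q)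
    (h3 : classInner α β = 0) (x y : ℕ) :
    ∑ g, ‖(x : ℂ) * α g - y * β g‖ ^ 2 = (Nat.card D : ℝ) * (x ^ 2 * p + y ^ 2 * q) := by
  have h := classInner_self_eq ((x : ℂ) • α - (y : ℂ) • β)
  simp only [classInner_sub_left, classInner_sub_right, classInner_smul_left, classInner_smul_right, h1,
    h2, h3, classInner_eq_zero_comm.1 h3, map_natCast, Pi.sub_apply, Pi.smul_apply, smul_eq_mul] at h
  have h0 : (Nat.card D : ℝ) ≠ 0 := Nat.cast_ne_zero.2 Nat.card_pos.ne'
  rw [← inv_mul_eq_iff_eq_mul₀ h0]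
  refine Complex.ofReal_injective (h.symm.trans ?_)
  push_cast
  ring

omit [Fintype D] in
theorem exists_sum_irr [Finite D] {χ : D → ℂ} (h : IsCharacter D χ) :
    ∃ (t : ℕ) (ψ : Fin t → D → ℂ), (∀ i, IsIrrCharacter D (ψ i)) ∧ χ = ∑ i, ψ i :=
  h.induction_on ⟨0, ![], fun i => i.elim0, rfl⟩ fun ψ _ h _ ⟨t, f, h1, h2⟩ =>
    ⟨t + 1, Fin.cons ψ f, Fin.cases h h1, by simp [Fin.sum_univ_succ, h2]⟩

theorem ti_real (R : Subgroup D) (hc : ∀ x ∈ R, ∀ y ∈ R, Commute x y)
    (hC : ∀ u ∈ R, u ≠ 1 → centralizer ({u} : Set D) ≤ R) (F : D → ℝ)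
    (hF : ∀ g x : D, F (x * g * x⁻¹) = F g) [DecidablePred fun y : D => ∃ u ∈ R, u ≠ 1 ∧ IsConj u y]
    [Fintype R] : (R.relIndex (normalizer (R : Set D)) : ℝ) * Nat.card R *
        ∑ y ∈ Finset.univ.filter (fun y : D => ∃ u ∈ R, u ≠ 1 ∧ IsConj u y), F y =
      (Nat.card D : ℝ) * (∑ u : R, F u - F 1) := by
  classical
  have h := ti_sum R hc hC (fun g => F g) fun g x => by rw [hF]
  have e : R.relIndex (normalizer (R : Set D)) * Nat.card R = Nat.card (normalizer (R : Set D)) := by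
    rw [← Nat.card_congr (subgroupOfEquivOfLe le_normalizer).toEquiv, mul_comm]
    exact card_mul_index _
  rw [← Nat.cast_mul, e, ← Finset.sum_subtype (Finset.univ.filter (· ∈ R)) (by simp),
    ← Finset.add_sum_erase (Finset.univ.filter (· ∈ R)) _ (a := 1) (by simp), add_sub_cancel_left,
    show (Finset.univ.filter (· ∈ R)).erase 1 = Finset.univ.filter fun u : D => u ∈ R ∧ u ≠ 1 by
      ext; simp [and_comm]]
  exact_mod_cast h

/-- Two constituents. -/
theorem two_const (R : Subgroup D) (hc : ∀ x ∈ R, ∀ y ∈ R, Commute x y)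
    (hC : ∀ u ∈ R, u ≠ 1 → centralizer ({u} : Set D) ≤ R) [Fintype R] {α β : D → ℂ}
    (hα : IsIrrCharacter D α) (hβ : IsIrrCharacter D β) {p q : ℕ} (p1 : α 1 = p) (q1 : β 1 = q)
    (h1 : classInner (fun u : R => α u) (fun u => α u) = p)
    (h2 : classInner (fun u : R => β u) (fun u => β u) = q)
    (h3 : classInner (fun u : R => α u) (fun u => β u) = 0)
    (ep : R.relIndex (normalizer (R : Set D)) ≤ p) (eq : R.relIndex (normalizer (R : Set D)) ≤ q) :
    p = R.relIndex (normalizer (R : Set D)) ∧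
      ∀ g, (¬ ∃ u ∈ R, u ≠ 1 ∧ IsConj u g) → (q : ℂ) * α g = p * β g := by
  classical
  have e0 : 0 < R.relIndex (normalizer (R : Set D)) := Nat.pos_of_ne_zero index_ne_zero_of_finite
  have ne : α ≠ β := fun e => by
    rw [← e, h1] at h3
    have : p = 0 := by exact_mod_cast h3
    omega
  have k1 := sum_norm_comb (p := 1) (q := 1) (by simpa using hα.inner_self) (by simpa using hβ.inner_self)
    (hα.inner_eq_zero_of_ne hβ ne) q p
  have k2 := ti_real R hc hC (fun g => ‖(q : ℂ) * α g - p * β g‖ ^ 2) fun g x => by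
    rw [hα.isClassFunction, hβ.isClassFunction]
  rw [sum_norm_comb h1 h2 h3, p1, q1, mul_comm (q : ℂ), sub_self, norm_zero, zero_pow two_ne_zero,
    sub_zero, mul_right_comm, ← mul_assoc, mul_right_comm (Nat.card D : ℝ),
    mul_left_inj' (Nat.cast_ne_zero.2 Nat.card_pos.ne')] at k2
  rw [← Finset.sum_filter_add_sum_filter_not _ fun y : D => ∃ u ∈ R, u ≠ 1 ∧ IsConj u y] at k1
  have b0 : ∀ g ∈ Finset.univ.filter fun y : D => ¬ ∃ u ∈ R, u ≠ 1 ∧ IsConj u y,
      0 ≤ ‖(q : ℂ) * α g - p * β g‖ ^ 2 := fun _ _ => sq_nonneg _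
  have b1 := Finset.sum_nonneg b0
  have b2 := (Finset.sum_eq_zero_iff_of_nonneg b0).1
  generalize R.relIndex (normalizer (R : Set D)) = e at *
  generalize ∑ y ∈ Finset.univ.filter (fun y : D => ∃ u ∈ R, u ≠ 1 ∧ IsConj u y),
    ‖(q : ℂ) * α y - p * β y‖ ^ 2 = A at *
  generalize ∑ y ∈ Finset.univ.filter (fun y : D => ¬ ∃ u ∈ R, u ≠ 1 ∧ IsConj u y),
    ‖(q : ℂ) * α y - p * β y‖ ^ 2 = B at *
  have d0 : (0 : ℝ) < Nat.card D := Nat.cast_pos.2 Nat.card_pos
  have e1 : (0 : ℝ) < e := Nat.cast_pos.2 e0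
  have c1 : 0 ≤ Nat.card D * ((q : ℝ) ^ 2 * (p - e)) := by
    have : (e : ℝ) ≤ p := Nat.cast_le.2 ep
    positivity
  have c2 : 0 ≤ Nat.card D * ((p : ℝ) ^ 2 * (q - e)) := by
    have : (e : ℝ) ≤ q := Nat.cast_le.2 eq
    positivity
  have c3 : e * B + Nat.card D * ((q : ℝ) ^ 2 * (p - e)) + Nat.card D * ((p : ℝ) ^ 2 * (q - e)) = 0 := by
    push_cast at k1
    linear_combination e * k1 - k2
  have c4 := mul_nonneg e1.le b1
  refine ⟨?_, fun g hg => sub_eq_zero.1 (norm_eq_zero.1 ((pow_eq_zero_iff two_ne_zero).1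
    (b2 ((mul_eq_zero.1 (by linarith : e * B = 0)).resolve_left e1.ne') g (by simpa using hg))))⟩
  have := (mul_eq_zero.1 ((mul_eq_zero.1 (by linarith : Nat.card D * ((q : ℝ) ^ 2 * (p - e)) = 0)).resolve_left
    d0.ne')).resolve_left (pow_ne_zero 2 (Nat.cast_ne_zero.2 (by omega)))
  exact_mod_cast sub_eq_zero.1 this

/-- `π|R` is the regular character.  Write `π = Σ m_χ χ`; since `Σ m_χ ⟨χ|R, λ⟩ = 1` for each linear
`λ` of `R`, all `m_χ ≤ 1`, `⟨ψ|R, ψ|R⟩ = ψ 1`, `⟨ψ|R, ψ'|R⟩ = 0` for constituents `ψ ≠ ψ'`; `1` is a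
constituent, and there are `t ≥ 2` others (`⟨π, π⟩ = ` rank `≥ 3`; or: `π = 1 + ψ` gives rank `2`),
of degrees `k_i ≥ e` (`deg_ge`), `Σ k_i = n - 1`.  For `i ≠ j`, `θ = k_j ψ_i - k_i ψ_j` has `θ 1 = 0`,
norm `k_i² + k_j²`, and `ti_sum` of `|θ|²` gives
`e (k_i² + k_j²) ≥ k_i k_j (k_i + k_j)`, with equality only if `θ = 0` on `X`.  So all `k_i = e`,
`t e = n - 1`, and all `ψ_i` take the same value `c g` at `g ∈ X`; `π g = 1 + t c g`, `c g` is a rational
algebraic integer, so `π g ≠ 0` on `X`.  The elements off `X` are derangements, `|D| t / n` of them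
(`ti_sum` with `F = 1`).  `Σ_g (π g - 1)(π g - n) = t |D|` (from `⟨π,π⟩ = t + 1`, `⟨π,1⟩ = 1`), the
derangements already contribute `t |D|`, the other terms are `≤ 0`: `π g = 1` on `X \ {1}`.
`Σ π = |D|` gives `n - 1 = |D| t / n`, `|D| = n e = |N(R)|`. -/
theorem bt {D Ω : Type*} [Group D] [Finite D] [MulAction D Ω] [FaithfulSMul D Ω] [Finite Ω]
    (R : Subgroup D) (hc : ∀ x ∈ R, ∀ y ∈ R, Commute x y)
    (htr : ∀ a b : Ω, ∃ x ∈ R, x • a = b) (hC : ∀ u ∈ R, u ≠ 1 → centralizer ({u} : Set D) ≤ R)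
    {a b c : Ω} (hb : b ≠ a) (hc' : c ≠ a) (hbc : ∀ g : D, g • a = a → g • b ≠ c) :
    R.Normal := by
  classical
  have := Fintype.ofFinite D
  have : IsMulCommutative R := ⟨⟨fun a b => Subtype.ext (hc _ a.2 _ b.2)⟩⟩
  have : IsPretransitive D Ω := ⟨fun a b => let ⟨x, _, e⟩ := htr a b; ⟨x, e⟩⟩
  have : Nonempty Ω := ⟨a⟩
  obtain ⟨n, hn⟩ : ∃ n, Nat.card Ω = n := ⟨_, rfl⟩
  obtain ⟨p, hp⟩ : ∃ p : D → ℕ, ∀ g, Nat.card (fixedBy Ω g) = p g := ⟨_, fun _ => rfl⟩
  have fr : ∀ u ∈ R, ∀ w : Ω, u • w = w → u = 1 := fun u hu w e => eq_of_smul_eq_smul (α := Ω) fun v => by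
    obtain ⟨x, hx, rfl⟩ := htr w v
    rw [one_smul, smul_smul, (hc u hu x hx).eq, mul_smul, e]
  have nR : Nat.card R = n := hn ▸ Nat.card_congr (Equiv.ofBijective (fun u : R => u.1 • a) ⟨fun u v e =>
    (inv_mul_eq_one.1 (Subtype.ext (fr _ (v⁻¹ * u).2 a (by
      rw [coe_mul, mul_smul, show u.1 • a = v.1 • a from e, coe_inv, inv_smul_smul])))).symm,
    fun w => let ⟨x, hx, e⟩ := htr a w; ⟨⟨x, hx⟩, e⟩⟩)
  have p1 : p 1 = n := by rw [← hp, fixedBy_one_eq_univ, Nat.card_univ, hn]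
  have pY : ∀ y, (∃ u ∈ R, u ≠ 1 ∧ IsConj u y) → p y = 0 := by
    rintro _ ⟨u, hu, u1, e⟩
    obtain ⟨x, rfl⟩ := isConj_iff.1 e
    rw [← hp, Nat.card_eq_zero]
    refine .inl ⟨fun w => u1 (fr u hu (x⁻¹ • w) ?_)⟩
    rw [eq_inv_smul_iff, smul_smul, smul_smul]
    exact w.2
  have pn : ∀ g, p g ≤ n := fun g => by rw [← hp, ← hn]; exact Nat.card_le_card_of_injective _ Subtype.val_injective
  have pe : ∀ g, p g = n → g = 1 := fun g e => eq_of_smul_eq_smul (α := Ω) fun v => by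
    rw [← hp, ← hn] at e
    rw [one_smul]
    exact (Set.eq_univ_iff_forall.1 ((Set.eq_univ_iff_ncard _).2 e) v :)
  have s1 : ∑ g, p g = Nat.card D := by
    simpa [hp, Misc.card_orbits_eq_one] using Misc.sum_card_fixedBy_eq (G := D) (X := Ω)
  have s2 : 3 * Nat.card D ≤ ∑ g, p g * p g := by
    have := Misc.sum_card_fixedBy_eq (G := D) (X := Ω × Ω)
    rw [Finset.sum_congr rfl (g := fun g => p g * p g) fun g _ => by
      rw [← hp, ← Nat.card_prod]
      exact Nat.card_congr ((Equiv.setCongr (Set.ext fun x => Prod.ext_iff)).trans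
        (Equiv.Set.prod (fixedBy Ω g) (fixedBy Ω g)))] at this
    rw [this]
    have := Fintype.ofFinite (orbitRel.Quotient D (Ω × Ω))
    rw [Nat.card_eq_fintype_card (α := orbitRel.Quotient _ _)]
    refine Nat.mul_le_mul_right _ (Fintype.two_lt_card_iff.2
      ⟨.mk _ (a, a), .mk _ (a, b), .mk _ (a, c), fun e => ?_, fun e => ?_, fun e => ?_⟩) <;>
      obtain ⟨g, e⟩ := Quotient.exact e.symm <;> obtain ⟨e1, e2⟩ := Prod.ext_iff.1 e
    · exact hb (e2.symm.trans e1)
    · exact hc' (e2.symm.trans e1)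
    · exact hbc g e1 e2
  have d0 := card_ne_zero_complex D
  have hπ : IsCharacter D fun g => (p g : ℂ) := by simpa only [hp] using isCharacter_card_fixedBy (G := D) Ω
  have i1 : classInner (fun g => (p g : ℂ)) (fun _ => 1) = 1 := by
    rw [classInner_one_right, ← Nat.cast_sum, s1, inv_mul_cancel₀ d0]
  obtain ⟨t, ψ, hψ, hφ⟩ := exists_sum_irr (hπ.sub_irr isIrrCharacter_one (i1.trans_ne one_ne_zero))
  have hφ' : ∀ g, (p g : ℂ) - 1 = ∑ i, ψ i g := fun g => (congrFun hφ g).trans (Finset.sum_apply ..)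
  choose k k0 hk using fun i => (hψ i).exists_apply_one
  have hr := fun i => (hψ i).isCharacter.restrict R
  choose m hm using fun i j => (hr i).exists_inner_eq_nat (hr j)
  choose m0 hm0 using fun i => (hr i).exists_inner_eq_nat isCharacter_one
  have km : ∀ i, k i = m0 i + ∑ j, m i j := fun i => by
    have := classInner_regChar_right (fun u : R => ψ i u)
    rw [show regChar R = (fun _ => 1) + ∑ j, fun u : R => ψ j u from funext fun u => by
      rw [Pi.add_apply, Finset.sum_apply, ← hφ', add_sub_cancel, regChar_apply]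
      split_ifs with e
      · rw [e, nR, coe_one, p1]
      · rw [pY u ⟨u, u.2, fun k => e (Subtype.ext k), IsConj.refl _⟩, Nat.cast_zero],
      classInner_add_right, classInner_sum_right, hm0, coe_one, hk] at this
    simp only [hm] at this
    exact_mod_cast this.symm
  have mi := fun i => deg_le_inner (hr i) (hk i) (hm i i)
  have m1 : ∀ i, m0 i = 0 ∧ m i i = k i := fun i => by
    have := Finset.single_le_sum (f := m i) (fun _ _ => Nat.zero_le _) (Finset.mem_univ i)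
    have := km i
    have := mi i
    omega
  have m2 : ∀ i j, i ≠ j → m i j = 0 := fun i j e => by
    have := Finset.add_le_sum (f := m i) (fun _ _ => Nat.zero_le _) (Finset.mem_univ i) (Finset.mem_univ j) e
    have := km i
    have := mi i
    omega
  have ek : ∀ i, R.relIndex (normalizer (R : Set D)) ≤ k i := fun i =>
    deg_ge R hc hC (hψ i).isCharacter (hk i) (k0 i).ne' (by
      have := hm0 i
      rw [(m1 i).1, classInner_one_right, Nat.cast_zero] at this
      rw [finsum_eq_sum_of_fintype]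
      exact (mul_eq_zero.1 this).resolve_left (inv_ne_zero (card_ne_zero_complex R)))
  have tw := fun i j (e : i ≠ j) => two_const R hc hC (hψ i) (hψ j) (hk i) (hk j) ((m1 i).2 ▸ hm i i)
    ((m1 j).2 ▸ hm j j) (by rw [hm, m2 i j e, Nat.cast_zero]) (ek i) (ek j)
  have s3 : ∑ g, ((p g : ℝ) - 1) ^ 2 = (Nat.card D : ℝ) * t := by
    have := card_mul_classInner (∑ i, ψ i) (∑ i, ψ i)
    rw [classInner_sum_right, Finset.sum_congr rfl (g := fun _ => 1) fun i _ => by
      rw [inner_sum_irr hψ (hψ i), Finset.card_eq_one.2 ⟨i, Finset.eq_singleton_iff_unique_mem.2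
        ⟨by simp, fun j hj => by_contra fun e => (k0 i).ne' (by
          have := hm j i
          rw [(Finset.mem_filter.1 hj).2, hm, (m1 i).2, m2 j i e] at this
          exact_mod_cast this)⟩⟩, Nat.cast_one], ← hφ] at this
    refine Complex.ofReal_injective ?_
    simpa [sq] using this.symm
  have s1' : ∑ g, ((p g : ℝ) - 1) = 0 := by
    rw [Finset.sum_sub_distrib, ← Nat.cast_sum, s1]
    simp
  have d1 : (0 : ℝ) < Nat.card D := Nat.cast_pos.2 Nat.card_pos
  have t2 : 2 ≤ t := by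
    have h1 : ∑ g, ((p g : ℝ) - 1) ^ 2 = ∑ g, (p g : ℝ) * p g - ∑ g, (p g : ℝ) - ∑ g, ((p g : ℝ) - 1) := by
      rw [← Finset.sum_sub_distrib, ← Finset.sum_sub_distrib]
      exact Finset.sum_congr rfl fun g _ => by ring
    have h2 : 3 * (Nat.card D : ℝ) ≤ ∑ g, (p g : ℝ) * p g := by exact_mod_cast s2
    rw [s3, s1', ← Nat.cast_sum, s1] at h1
    exact_mod_cast le_of_mul_le_mul_left (by linarith : (Nat.card D : ℝ) * 2 ≤ Nat.card D * t) d1
  have : Nontrivial (Fin t) := Fin.nontrivial_iff_two_le.2 t2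
  have ke : ∀ i, k i = R.relIndex (normalizer (R : Set D)) := fun i =>
    let ⟨j, e⟩ := exists_ne i; (tw i j e.symm).1
  have y1 := ti_real R hc hC (fun _ => 1) fun _ _ => rfl
  have e0 : 0 < R.relIndex (normalizer (R : Set D)) := Nat.pos_of_ne_zero index_ne_zero_of_finite
  have eM : R.relIndex (normalizer (R : Set D)) * Nat.card R = Nat.card (normalizer (R : Set D)) := by
    rw [← Nat.card_congr (subgroupOfEquivOfLe le_normalizer).toEquiv, mul_comm]
    exact card_mul_index _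
  generalize R.relIndex (normalizer (R : Set D)) = e at ke y1 e0 eM
  have te : (n : ℝ) - 1 = t * e := by
    have := hφ' 1
    simp only [p1, hk, ke, Finset.sum_const, Finset.card_univ, Fintype.card_fin, nsmul_eq_mul] at this
    exact_mod_cast this
  have pX : ∀ g, (¬ ∃ u ∈ R, u ≠ 1 ∧ IsConj u g) → 1 ≤ p g := fun g hg => Nat.pos_of_ne_zero fun h0 => by
    obtain ⟨i⟩ : Nonempty (Fin t) := inferInstance
    have h1 := hφ' g
    rw [h0, Finset.sum_congr rfl (g := fun _ => ψ i g) fun j _ => by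
      by_cases e : j = i
      · rw [e]
      · have := (tw j i e).2 g hg
        rw [ke, ke] at this
        exact mul_left_cancel₀ (Nat.cast_ne_zero.2 e0.ne') this] at h1
    simp only [Finset.sum_const, Finset.card_univ, Fintype.card_fin, nsmul_eq_mul] at h1
    have h2 : IsIntegral ℤ (algebraMap ℚ ℂ (-1 / t)) := by
      convert (hψ i).isIntegral g
      have : (t : ℂ) ≠ 0 := Nat.cast_ne_zero.2 (by omega)
      simp only [eq_ratCast]
      push_cast
      field_simp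
      linear_combination h1
    obtain ⟨z, hz⟩ := IsIntegrallyClosed.isIntegral_iff.1 ((isIntegral_algebraMap_iff
      (algebraMap ℚ ℂ).injective).1 h2)
    have : (t : ℚ) ≠ 0 := Nat.cast_ne_zero.2 (by omega)
    have h3 : (t : ℤ) * -z = 1 := by
      rw [eq_div_iff this, eq_intCast] at hz
      exact_mod_cast (by linear_combination -hz : (t : ℚ) * -z = 1)
    have := Int.eq_one_of_mul_eq_one_right (by omega) h3
    omega
  simp only [Finset.sum_const, nsmul_eq_mul, mul_one, Finset.card_univ, ← Nat.card_eq_fintype_card, nR] at y1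
  have s4 : ∑ g, ((p g : ℝ) - 1) * (n - p g) = -((Nat.card D : ℝ) * t) := by
    rw [← s3, ← zero_sub, ← mul_zero ((n : ℝ) - 1), ← s1', Finset.mul_sum, ← Finset.sum_sub_distrib]
    exact Finset.sum_congr rfl fun g _ => by ring
  rw [← Finset.sum_filter_add_sum_filter_not _ fun y : D => ∃ u ∈ R, u ≠ 1 ∧ IsConj u y] at s4 s1'
  rw [Finset.sum_congr rfl (g := fun _ => -(n : ℝ)) fun g hg => by simp [pY g (Finset.mem_filter.1 hg).2]] at s4
  rw [Finset.sum_congr rfl (g := fun _ => (-1 : ℝ)) fun g hg => by simp [pY g (Finset.mem_filter.1 hg).2]] at s1'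
  rw [Finset.sum_const, nsmul_eq_mul] at s4 s1'
  generalize (Finset.univ.filter fun y : D => ∃ u ∈ R, u ≠ 1 ∧ IsConj u y).card = Y at s4 s1' y1
  have e1 : (0 : ℝ) < e := Nat.cast_pos.2 e0
  have y2 : (n : ℝ) * Y = Nat.card D * t := mul_left_cancel₀ e1.ne' (by rw [te] at y1; linear_combination y1)
  have s5 := (Finset.sum_eq_zero_iff_of_nonneg fun g hg => mul_nonneg (sub_nonneg.2 (Nat.one_le_cast.2
    (pX g (Finset.mem_filter.1 hg).2))) (sub_nonneg.2 (Nat.cast_le.2 (pn g)))).1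
      (by linear_combination s4 + y2 : ∑ g ∈ Finset.univ.filter (fun y : D => ¬ ∃ u ∈ R, u ≠ 1 ∧ IsConj u y),
        ((p g : ℝ) - 1) * (n - p g) = 0)
  rw [Finset.sum_eq_single_of_mem 1 (by simp) fun g hg g1 => (mul_eq_zero.1 (s5 g hg)).resolve_right
    fun e => g1 (pe g (Nat.cast_injective (R := ℝ) (sub_eq_zero.1 e)).symm), p1] at s1'
  have y3 : (0 : ℝ) < n - 1 := te ▸ mul_pos (Nat.cast_pos.2 (by omega)) e1
  refine normalizer_eq_top_iff.1 (eq_top_of_card_eq _ (Nat.cast_injective (R := ℝ) ?_))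
  rw [← eM, nR, Nat.cast_mul]
  exact mul_right_cancel₀ y3.ne' (by linear_combination y1 + e * n * s1')

end Cfsg.Lib.DG
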