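import Cfsg.Agent.Lib.DG.L0

/-!
# Index of the derangement subgroup: the class-two count

`B` is an `s`-group with semiregular (hence cyclic, `Sr.cyc`) centre `Z`, `[B, B] ≤ Z`, `B^s ≤ Z`.
Let `a = |B_{v0}| = s ^ i` (`i ≥ 1`) be the maximal stabilizer order, `S` the set of vectors `w ≠ 1`
with `|B_w| = a`.  For `w ∈ S`, `A = B_w` meets `Z` trivially, so it is elementary abelian, and
`B_u = A` for all `1 ≠ u ∈ fx V A` (maximality).
-/

set_option autoImplicit false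

namespace Cfsg.Lib.DG

open Subgroup MulAction
open scoped commutatorElement

/-- Induction on `i`: `r 0 ≤ c` gives `d ≤ κ - 1`; step: `(κ^m - 1)(κ^m + 1) = κ^(2m) - 1`
(prove `(κ - 1) * ∏ ≤ c * (κ ^ 2 ^ i - 1)`). -/
theorem num_two {r : ℕ → ℕ} {c κ d i : ℕ} (hc : 0 < c) (hκ : 0 < κ) (h0 : r 0 ≤ c)
    (hr : ∀ m, r (m + 1) ≤ κ ^ 2 ^ m + 1)
    (hd : d * c ≤ (κ - 1) * ∏ m ∈ Finset.range (i + 1), r m) : (d + 1) ^ 2 ≤ κ ^ 2 ^ (i + 1) := by
  have key : ∀ i, (κ - 1) * ∏ m ∈ Finset.range (i + 1), r m ≤ c * (κ ^ 2 ^ i - 1) := fun i => by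
    induction i with
    | zero => simpa [mul_comm] using Nat.mul_le_mul_left (κ - 1) h0
    | succ i ih =>
      rw [Finset.prod_range_succ, ← mul_assoc]
      refine (Nat.mul_le_mul ih (hr i)).trans (le_of_eq ?_)
      rw [mul_assoc, pow_succ 2 i, pow_mul, mul_comm (_ - 1), ← Nat.sq_sub_sq, one_pow]
  have h1 := Nat.le_of_mul_le_mul_left ((mul_comm d c ▸ hd).trans (key i)) hc
  have h2 : 0 < κ ^ 2 ^ i := pow_pos hκ _
  rw [pow_succ 2 i, pow_mul]
  exact Nat.pow_le_pow_left (by omega) 2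

/-- `s ≥ 3`, `g ≥ 2`, `κ ≥ g + 1`.  `i = 0`: `2 d ≤ 3 (κ - 1)`, `(d+1)^2 ≤ κ^3`.  Step: Bernoulli
`1 + g s^m ≤ κ ^ s ^ m` and `2 s^m ≤ (s - 1) s^m`; use the real/rational quantity
`D i = (κ-1) ∏ / g`, `D (i+1) + 1 ≤ (1 + g s^(i+1)) (D i + 1)`, or the claim
`((κ-1) ∏ + g)^2 ≤ g^2 κ^(s^(i+1))`. -/
theorem num_odd {g κ d i s : ℕ} (hs : 3 ≤ s) (hg : 2 ≤ g) (hκ : g + 1 ≤ κ)
    (hd : d * g ≤ (κ - 1) * ∏ m ∈ Finset.range (i + 1), (1 + g * s ^ m)) :
    (d + 1) ^ 2 ≤ κ ^ s ^ (i + 1) := by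
  have hB : ∀ n : ℕ, 1 + g * n ≤ κ ^ n := fun n => by
    have := one_add_mul_le_pow (a := (g : ℤ)) (by omega) n
    have h2 : (1 + g) ^ n ≤ κ ^ n := Nat.pow_le_pow_left (by omega) n
    refine le_trans ?_ h2
    rw [mul_comm]
    exact_mod_cast this
  have key : ∀ i, ((κ - 1) * ∏ m ∈ Finset.range (i + 1), (1 + g * s ^ m) + g) ^ 2 ≤
      g ^ 2 * κ ^ s ^ (i + 1) := fun i => by
    induction i with
    | zero =>
      simp only [zero_add, Finset.prod_range_one, pow_zero, mul_one, pow_one]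
      obtain ⟨k, rfl⟩ : ∃ k, κ = k + 1 := ⟨κ - 1, by omega⟩
      have h1 : (k + 1) ^ 3 ≤ (k + 1) ^ s := Nat.pow_le_pow_right (by omega) hs
      have h2 : (1 + g) ^ 2 ≤ g ^ 2 * (k + 1) := by nlinarith
      calc _ ≤ ((k + 1) * (1 + g)) ^ 2 := Nat.pow_le_pow_left (by simp only [Nat.add_sub_cancel]; nlinarith) 2
        _ = (k + 1) ^ 2 * (1 + g) ^ 2 := by ring
        _ ≤ (k + 1) ^ 2 * (g ^ 2 * (k + 1)) := Nat.mul_le_mul_left _ h2
        _ = g ^ 2 * (k + 1) ^ 3 := by ring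
        _ ≤ _ := Nat.mul_le_mul_left _ h1
    | succ i ih =>
      rw [Finset.prod_range_succ, ← mul_assoc]
      set P := (κ - 1) * ∏ m ∈ Finset.range (i + 1), (1 + g * s ^ m)
      set n := s ^ (i + 1) with hn
      have h1 := hB n
      calc (P * (1 + g * n) + g) ^ 2 ≤ ((P + g) * (1 + g * n)) ^ 2 :=
            Nat.pow_le_pow_left (by nlinarith [Nat.zero_le (g * (g * n))]) 2
        _ = (P + g) ^ 2 * (1 + g * n) ^ 2 := by ring
        _ ≤ (g ^ 2 * κ ^ n) * (κ ^ n) ^ 2 := Nat.mul_le_mul ih (Nat.pow_le_pow_left h1 2)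
        _ = g ^ 2 * κ ^ (n * 3) := by ring
        _ ≤ _ := by
          refine Nat.mul_le_mul_left _ (Nat.pow_le_pow_right (by omega) ?_)
          rw [pow_succ s (i + 1)]
          exact Nat.mul_le_mul_left _ hs
  have h1 : (g * (d + 1)) ^ 2 ≤ g ^ 2 * κ ^ s ^ (i + 1) :=
    (Nat.pow_le_pow_left (by rw [mul_add, mul_one, mul_comm g]; omega) 2).trans (key i)
  rw [mul_pow] at h1
  exact Nat.le_of_mul_le_mul_left h1 (by positivity)

variable {B V : Type*} [Group B] [CommGroup V] [MulDistribMulAction B V] [Finite B] [Finite V]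
  {s d : ℕ} {v0 : V}

omit [Finite V] in
theorem Pg.stab_eq (h : Pg B s v0 d) {w : V}  (_hw : w ≠ 1)
    (ha : Nat.card (stabilizer B w) = Nat.card (stabilizer B v0)) :
    ∀ u ∈ fx V (stabilizer B w), u ≠ 1 → stabilizer B u = stabilizer B w := fun u hu h1 =>
  (eq_of_le_of_card_ge (fun x hx => hu x hx) (ha ▸ h.mx u h1)).symm

omit [Finite B] [Finite V] in
theorem Pg.stab_comm (h : Pg B s v0 d) (hc : ∀ x y : B, ⁅x, y⁆ ∈ center B) {w : V} (hw : w ≠ 1) :
    ∀ x ∈ stabilizer B w, ∀ y ∈ stabilizer B w, x * y = y * x := fun x hx y hy =>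
  commutatorElement_eq_one_iff_mul_comm.1 (h.zs _ (hc x y) w hw (by
    rw [commutatorElement_def]
    exact mul_mem (mul_mem (mul_mem hx hy) (inv_mem hx)) (inv_mem hy)))

/-- `FGS.relIndex_centralizer_eq_of_cyclic` with `A0`, `⊤`, `center B`; `A0 ⊓ Z = ⊥`. -/
theorem Pg.cen (h : Pg B s v0 d) (hc : ∀ x y : B, ⁅x, y⁆ ∈ center B) {w : V} (hw : w ≠ 1)
    {A0 : Subgroup B} (hA : A0 ≤ stabilizer B w) :
    Nat.card (centralizer (A0 : Set B)) * Nat.card A0 = Nat.card B := by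
  haveI : Nontrivial V := ⟨⟨w, 1, hw⟩⟩
  have hZ := h.zs.cyc h.pr (h.pg.to_subgroup _) fun x hx y _ => (mem_center_iff.1 hx y).symm
  have h1 := FGS.relIndex_centralizer_eq_of_cyclic (A := A0) (B := ⊤) hZ
    (commutator_le.2 fun x _ y _ => hc x y) (center_le_centralizer _) (center_le_centralizer _)
  rw [relIndex_top_right, ← inf_relIndex_right] at h1
  have h2 : centralizer ((⊤ : Subgroup B) : Set B) ⊓ A0 = ⊥ := eq_bot_iff.2 fun x hx =>
    h.zs x (mem_center_iff.2 fun g => hx.1 g trivial) w hw (hA hx.2)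
  rw [h2, relIndex_bot_left] at h1
  rw [h1, card_mul_index]

/-- `A = B_w`, `κ = |fx V A|`.  `conjInd A` (conjugates of elements of `A` lie in `A Z`), and
`N(A) = C(A)` has index `a`, so `κ ^ a ≤ |V|`.  The `C(A)`-orbit of `w` lies in `fx V A \ {1}` and has
size `|C(A)| / a`, so `|B| = a |C(A)| ≤ a * a * (κ - 1)`. -/
theorem Pg.kap (h : Pg B s v0 d) (hc : ∀ x y : B, ⁅x, y⁆ ∈ center B) {w : V} (hw : w ≠ 1)
    (ha : Nat.card (stabilizer B w) = Nat.card (stabilizer B v0)) :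
    Nat.card (fx V (stabilizer B w)) ^ Nat.card (stabilizer B v0) ≤ Nat.card V ∧
      Nat.card B ≤ Nat.card (stabilizer B v0) * Nat.card (stabilizer B v0) *
        (Nat.card (fx V (stabilizer B w)) - 1) := by
  have hm := h.stab_eq hw ha
  have hab := h.stab_comm hc hw
  constructor
  · have h1 := conjInd (V := V) (stabilizer B w) (fun x hx y hy g => by
      have : g * y * g⁻¹ = ⁅g, y⁆ * y := by rw [commutatorElement_def]; group
      rw [this]
      exact Commute.mul_right (mem_center_iff.1 (hc g y) x) (hab x hx y hy))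
      fun u hu h1 x _ g e => hm u hu h1 ▸ e
    have h2 : normalizer (stabilizer B w : Set B) = centralizer (stabilizer B w : Set B) := by
      refine le_antisymm (fun g hg x hx => ?_) (centralizer_le_normalizer _)
      have h3 : ⁅g, x⁆ ∈ stabilizer B w := by
        rw [commutatorElement_def]
        exact mul_mem ((mem_normalizer_iff.1 hg x).1 hx) (inv_mem hx)
      exact (commutatorElement_eq_one_iff_mul_comm.1 (h.zs _ (hc g x) w hw h3)).symm
    have h3 := h.cen hc hw (le_refl (stabilizer B w))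
    rw [← card_mul_index (centralizer (stabilizer B w : Set B))] at h3
    rwa [h2, ← Nat.eq_of_mul_eq_mul_left Nat.card_pos h3, ha] at h1
  · set C := centralizer (stabilizer B w : Set B) with hC
    have h3 := h.cen hc hw (le_refl (stabilizer B w))
    have h1 : (stabilizer C w).index ≤ Nat.card (fx V (stabilizer B w)) - 1 := by
      rw [index_stabilizer]
      refine le_of_le_of_eq (Set.ncard_le_ncard ?_ (Set.toFinite _))
        (Set.ncard_diff_singleton_of_mem (fx V (stabilizer B w)).one_mem)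
      rintro _ ⟨x, rfl⟩
      exact ⟨smul_mem_fx (centralizer_le_normalizer _ x.2) fun _ hx => hx,
        fun e => hw (by simpa using congrArg (x⁻¹ • ·) (e : x • w = 1))⟩
    have h2 : Nat.card (stabilizer C w) ≤ Nat.card (stabilizer B w) :=
      Nat.card_le_card_of_injective (fun x => ⟨x.1.1, x.2⟩)
        fun x y e => Subtype.ext (Subtype.ext (congrArg (fun z : stabilizer B w => z.1) e))
    rw [← h3, ← card_mul_index (stabilizer C w), ← ha, mul_right_comm]
    gcongr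

/-- If `y` centralizes `A = B_w` and `y ^ s = 1` then `y ∈ A Z₁`: `fixpair y z` on `fx V A`
(`z` central of order `s`) gives `y z^j ∈ B_u = A`. -/
theorem Pg.memA (h : Pg B s v0 d) {w : V} (hw : w ≠ 1)
    (ha : Nat.card (stabilizer B w) = Nat.card (stabilizer B v0)) {y : B}
    (hy : y ∈ centralizer (stabilizer B w : Set B)) (hs : y ^ s = 1) :
    ∃ x ∈ stabilizer B w, ∃ z ∈ center B, z ^ s = 1 ∧ y = x * z := by
  haveI := Fact.mk h.pr
  haveI : Nontrivial B := by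
    obtain ⟨x, hx⟩ := ne_bot_iff_exists_ne_one.1 h.nb
    exact ⟨⟨x, 1, fun e => hx (Subtype.ext e)⟩⟩
  haveI := h.pg.center_nontrivial
  obtain ⟨n, hn0, hn⟩ := (h.pg.to_subgroup (center B)).nontrivial_iff_card.1 inferInstance
  obtain ⟨z, hz⟩ := exists_prime_orderOf_dvd_card' (G := center B) s (hn ▸ dvd_pow_self s hn0.ne')
  have hzs : (z : B) ^ s = 1 := by
    rw [← hz]; exact congrArg Subtype.val (pow_orderOf_eq_one z)
  have hz1 : (z : B) ≠ 1 := fun e => h.pr.one_lt.ne' (by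
    rw [← hz, orderOf_eq_one_iff]; exact Subtype.ext e)
  obtain ⟨u, hu, hu1, e | ⟨j, e⟩⟩ := fixpair (V := V) h.pr (mem_center_iff.1 z.2 y) hs hzs
    (U := fx V (stabilizer B w))
    (ne_bot_iff_exists_ne_one.2 ⟨⟨w, fun _ hx => hx⟩, fun e => hw (congrArg Subtype.val e)⟩)
    (fun u hu => smul_mem_fx (centralizer_le_normalizer _ hy) hu)
    fun u hu => smul_mem_fx (centralizer_le_normalizer _ (center_le_centralizer _ z.2)) hu
  · exact absurd (h.zs z z.2 u hu1 e) hz1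
  · refine ⟨y * z ^ j, h.stab_eq hw ha u hu hu1 ▸ e, (z ^ j)⁻¹, inv_mem (pow_mem z.2 j), ?_,
      (mul_inv_cancel_right _ _).symm⟩
    rw [inv_pow, ← pow_mul, mul_comm, pow_mul, hzs, one_pow, inv_one]

/-- The set `Y(A0)` of `y ∈ C(A0)`, `y ^ s = 1`, `y ∉ A0 Z`.  Here `A0 ≤ A = B_w`, `t |A0| = a`,
`g a a = |B|`.  The part in `C(A)` lies in `{x z | x ∈ A \ A0, z ∈ Z₁}`, size `≤ s (a - |A0|)`
(`|Z₁| ≤ s`); the rest lies in `C(A0) \ C(A)`, of size `(t - 1) g a = g t (a - |A0|)` (`cen`).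
For `s = 2` only half of `C(A0) \ C(A)` consists of involutions: fix `f y ∈ A` not commuting with `y`
depending only on the coset `y C(A)`; `(y * f y) ^ 2 = y ^ 2 * z`, `z ≠ 1`, and `y ↦ y * f y` is
injective and preserves `C(A0) \ C(A)`. -/
theorem Pg.ycard (h : Pg B s v0 d) (hc : ∀ x y : B, ⁅x, y⁆ ∈ center B)
    (hp : ∀ x : B, x ^ s ∈ center B) {w : V} (hw : w ≠ 1)
    (ha : Nat.card (stabilizer B w) = Nat.card (stabilizer B v0)) {A0 : Subgroup B}
    (hA : A0 ≤ stabilizer B w) {t g : ℕ} (ht : t * Nat.card A0 = Nat.card (stabilizer B v0))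
    (hg : g * Nat.card (stabilizer B v0) * Nat.card (stabilizer B v0) = Nat.card B) :
    {y : B | y ∈ centralizer (A0 : Set B) ∧ y ^ s = 1 ∧ y ∉ A0 ⊔ center B}.ncard ≤
        (s + g * t) * (Nat.card (stabilizer B v0) - Nat.card A0) ∧
      (s = 2 → 2 * {y : B | y ∈ centralizer (A0 : Set B) ∧ y ^ s = 1 ∧ y ∉ A0 ⊔ center B}.ncard ≤
        (4 + g * t) * (Nat.card (stabilizer B v0) - Nat.card A0)) := by
  classical
  haveI : Nontrivial V := ⟨⟨w, 1, hw⟩⟩
  haveI := h.zs.cyc h.pr (h.pg.to_subgroup _) fun x hx y _ => (mem_center_iff.1 hx y).symm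
  set A := stabilizer B w with hAd
  set a := Nat.card (stabilizer B v0) with had
  set Y := {y : B | y ∈ centralizer (A0 : Set B) ∧ y ^ s = 1 ∧ y ∉ A0 ⊔ center B}
  set T : Set B := (centralizer (A0 : Set B) : Set B) \ centralizer (A : Set B) with hT
  set Z1 : Set B := {z | z ∈ center B ∧ z ^ s = 1}
  have hab := h.stab_comm hc hw
  have hAC : A ≤ centralizer (A : Set B) := fun x hx y hy => hab y hy x hx
  have hCC : centralizer (A : Set B) ≤ centralizer (A0 : Set B) := centralizer_le hA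
  have hZ1 : Z1.ncard ≤ s := by
    haveI := Fintype.ofFinite (center B)
    refine le_trans ?_ (IsCyclic.card_pow_eq_one_le (α := center B) h.pr.pos)
    rw [← Set.ncard_coe_finset]
    refine le_of_eq_of_le ?_ (Set.ncard_image_le (f := Subtype.val) (Set.toFinite _))
    congr 1
    ext z
    simp only [Finset.coe_filter, Finset.mem_univ, true_and, Set.mem_image, Set.mem_setOf_eq, Z1]
    exact ⟨fun hz => ⟨⟨z, hz.1⟩, Subtype.ext hz.2, rfl⟩,
      by rintro ⟨z, hz, rfl⟩; exact ⟨z.2, congrArg Subtype.val hz⟩⟩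
  have hd : ((A : Set B) \ A0).ncard = a - Nat.card A0 := by
    rw [Set.ncard_diff hA, ← ha]; rfl
  have hY1 : (Y \ T).ncard ≤ s * (a - Nat.card A0) := by
    have : Y \ T ⊆ (fun p : B × B => p.2 * p.1) '' (Z1 ×ˢ ((A : Set B) \ A0)) := by
      rintro y ⟨⟨h1, h2, h3⟩, h4⟩
      obtain ⟨x, hx, z, hz, hzs, rfl⟩ := h.memA hw ha (y := y) (by by_contra h5; exact h4 ⟨h1, h5⟩) h2
      exact ⟨(z, x), ⟨⟨hz, hzs⟩, hx, fun h5 => h3 (mul_mem_sup h5 hz)⟩, rfl⟩
    refine (Set.ncard_le_ncard this (Set.toFinite _)).trans ((Set.ncard_image_le (Set.toFinite _)).trans ?_)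
    rw [Set.ncard_prod, hd]
    exact Nat.mul_le_mul_right _ hZ1
  have hTc : T.ncard = g * t * (a - Nat.card A0) := by
    have h1 := h.cen hc hw hA
    have h2 := h.cen hc hw (le_refl A)
    have hp0 : 0 < Nat.card A0 := Nat.card_pos
    have hpa : 0 < a := Nat.card_pos
    rw [ha, ← hg] at h2
    rw [← hg] at h1
    have h3 := Nat.eq_of_mul_eq_mul_right hpa h2
    have h4 : Nat.card (centralizer (A0 : Set B)) = g * a * t :=
      Nat.eq_of_mul_eq_mul_right hp0 (by rw [h1, mul_assoc _ t, ht])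
    rw [hT, Set.ncard_diff hCC, ← Nat.card_coe_set_eq, ← Nat.card_coe_set_eq, SetLike.coe_sort_coe,
      SetLike.coe_sort_coe, h3, h4, Nat.mul_sub, mul_assoc g t (Nat.card A0), ht, mul_right_comm]
  have hY : Y.ncard = (Y \ T).ncard + (Y ∩ T).ncard := by
    rw [add_comm, Set.ncard_inter_add_ncard_diff_eq_ncard]
  refine ⟨?_, fun hs => ?_⟩
  · have := Set.ncard_le_ncard (Set.inter_subset_right : Y ∩ T ⊆ T) (Set.toFinite _)
    rw [hY, add_mul, ← hTc]
    exact Nat.add_le_add hY1 this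
  subst hs
  have hf : ∀ q : B ⧸ centralizer (A : Set B), ∃ f ∈ A, ∀ y : B, (y : B ⧸ _) = q →
      y ∉ centralizer (A : Set B) → f * y ≠ y * f := fun q => by
    by_cases hq : q.out ∈ centralizer (A : Set B)
    · refine ⟨1, one_mem _, fun y hy h1 => absurd ?_ h1⟩
      have := QuotientGroup.eq.1 (hy.trans q.out_eq'.symm)
      simpa using mul_mem hq (inv_mem this)
    · simp only [mem_centralizer_iff, not_forall] at hq
      obtain ⟨f, hfA, hf⟩ := hq
      refine ⟨f, hfA, fun y hy _ e => hf ?_⟩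
      have := QuotientGroup.eq.1 (hy.trans q.out_eq'.symm) f hfA
      calc f * q.out = y * (f * (y⁻¹ * q.out)) := by rw [← mul_assoc, ← e]; group
        _ = _ := by rw [this]; group
  choose f hfA hf using hf
  have h2 : (Y ∩ T).ncard ≤ (T \ Y).ncard := by
    refine Set.ncard_le_ncard_of_injOn (fun y => y * f y) ?_ ?_ (Set.toFinite _)
    · rintro y ⟨⟨-, h2, -⟩, h4, h5⟩
      refine ⟨⟨mul_mem h4 (hCC (hAC (hfA _))), fun e => h5 ?_⟩, fun e => hf y y rfl h5 ?_⟩
      · simpa using mul_mem e (inv_mem (hAC (hfA y)))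
      · have e1 : f y ^ 2 = 1 := h.zs _ (hp _) w hw (pow_mem (hfA y) 2)
        have e2 := e.2.1
        rw [sq] at h2 e1 e2
        calc f y * y = (f y)⁻¹ * y⁻¹ := by
              rw [← mul_eq_one_iff_eq_inv.1 h2, ← mul_eq_one_iff_eq_inv.1 e1]
          _ = _ := by rw [← mul_inv_rev, ← mul_eq_one_iff_eq_inv.1 e2]
    · intro x _ y _ e
      have e1 : (x : B ⧸ centralizer (A : Set B)) = y := by
        have := congrArg (fun z : B => (z : B ⧸ centralizer (A : Set B))) e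
        simpa only [QuotientGroup.mk_mul_of_mem _ (hAC (hfA _))] using this
      simp only [e1] at e
      exact mul_right_cancel e
  have h3 : T.ncard = (T \ Y).ncard + (Y ∩ T).ncard := by
    rw [add_comm, Set.inter_comm, Set.ncard_inter_add_ncard_diff_eq_ncard]
  rw [hY, add_mul, ← hTc]
  omega

/-- Recursion.  `S(A0) = {w ∈ S | A0 ≤ B_w}`.  If `|A0| s ^ l = a` then `|S(A0)| ≤ (κ-1) ∏_{m<l} ρ m`.
`l = 0`: if `w ∈ S(A0)` then `A0 = B_w`, `S(A0) ⊆ fx V A0 \ {1}`.  Step: count pairs `(w, y)`,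
`w ∈ S(A0)`, `y ∈ B_w \ A0`: then `y ∈ Y(A0)`, `w ∈ S(A0 ⊔ zpowers y)` and
`|A0 ⊔ zpowers y| = s |A0|`; so `(a - |A0|) |S(A0)| ≤ |Y(A0)| (κ-1) ∏_{m<l} ρ m`. -/
theorem Pg.rcs (h : Pg B s v0 d) (hc : ∀ x y : B, ⁅x, y⁆ ∈ center B)
    (hp : ∀ x : B, x ^ s ∈ center B) {κ : ℕ}
    (hκ : ∀ w : V, w ≠ 1 → Nat.card (stabilizer B w) = Nat.card (stabilizer B v0) →
      Nat.card (fx V (stabilizer B w)) ≤ κ) {ρ : ℕ → ℕ}
    (hρ : ∀ (w : V) (A0 : Subgroup B) (m : ℕ), w ≠ 1 →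
      Nat.card (stabilizer B w) = Nat.card (stabilizer B v0) → A0 ≤ stabilizer B w →
      s ^ (m + 1) * Nat.card A0 = Nat.card (stabilizer B v0) →
      {y : B | y ∈ centralizer (A0 : Set B) ∧ y ^ s = 1 ∧ y ∉ A0 ⊔ center B}.ncard ≤
        ρ m * (Nat.card (stabilizer B v0) - Nat.card A0))
    (l : ℕ) (A0 : Subgroup B) (hl : s ^ l * Nat.card A0 = Nat.card (stabilizer B v0)) :
    {w : V | (w ≠ 1 ∧ Nat.card (stabilizer B w) = Nat.card (stabilizer B v0)) ∧
      A0 ≤ stabilizer B w}.ncard ≤ (κ - 1) * ∏ m ∈ Finset.range l, ρ m := by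
  classical
  haveI := Fact.mk h.pr
  induction l generalizing A0 with
  | zero =>
    set S := {w : V | (w ≠ 1 ∧ Nat.card (stabilizer B w) = Nat.card (stabilizer B v0)) ∧
      A0 ≤ stabilizer B w}
    rcases S.eq_empty_or_nonempty with e | ⟨w, ⟨hw, ha⟩, hA⟩
    · simp [e]
    have e : A0 = stabilizer B w := eq_of_le_of_card_ge hA (by rw [ha, ← hl]; simp)
    have h1 : S ⊆ (fx V (stabilizer B w) : Set V) \ {1} := fun u hu =>
      ⟨fun x hx => hu.2 (e ▸ hx), hu.1.1⟩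
    have h2 := Set.ncard_le_ncard h1 (Set.toFinite _)
    rw [Set.ncard_diff_singleton_of_mem (one_mem _)] at h2
    have : (fx V (stabilizer B w) : Set V).ncard ≤ κ := hκ w hw ha
    simp only [Finset.range_zero, Finset.prod_empty, mul_one]
    omega
  | succ l ih =>
    set S := {w : V | (w ≠ 1 ∧ Nat.card (stabilizer B w) = Nat.card (stabilizer B v0)) ∧
      A0 ≤ stabilizer B w}
    rcases S.eq_empty_or_nonempty with e | ⟨w0, ⟨hw0, ha0⟩, hA0⟩
    · simp [e]
    have hY := hρ w0 A0 l hw0 ha0 hA0 hl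
    set Y := {y : B | y ∈ centralizer (A0 : Set B) ∧ y ^ s = 1 ∧ y ∉ A0 ⊔ center B}
    have hpos : 0 < Nat.card (stabilizer B v0) - Nat.card A0 := by
      have h1 : 1 < s ^ (l + 1) := Nat.one_lt_pow (by omega) h.pr.one_lt
      have h2 : 0 < Nat.card A0 := Nat.card_pos
      rw [← hl]
      exact Nat.sub_pos_of_lt (lt_mul_of_one_lt_left h2 h1)
    have key := Finset.card_mul_le_card_mul (s := (Set.toFinite S).toFinset)
      (t := (Set.toFinite Y).toFinset) (fun w y => y ∈ stabilizer B w)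
      (m := Nat.card (stabilizer B v0) - Nat.card A0)
      (n := (κ - 1) * ∏ m ∈ Finset.range l, ρ m) (fun w hw => by
        obtain ⟨⟨hw, ha⟩, hA⟩ := (Set.Finite.mem_toFinset _).1 hw
        have e : ((stabilizer B w : Set B) \ A0).ncard = Nat.card (stabilizer B v0) - Nat.card A0 := by
          rw [Set.ncard_diff hA, ← ha]; rfl
        rw [← e, ← Set.ncard_coe_finset]
        refine Set.ncard_le_ncard (fun y hy => ?_) (Set.toFinite _)
        rw [Finset.mem_coe, Finset.mem_bipartiteAbove, Set.Finite.mem_toFinset]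
        refine ⟨⟨fun x hx => h.stab_comm hc hw x (hA hx) y hy.1,
          h.zs _ (hp y) w hw (pow_mem hy.1 s), fun e => hy.2 ?_⟩, hy.1⟩
        rw [← SetLike.mem_coe, mul_normal] at e
        obtain ⟨x, hx, z, hz, rfl⟩ := e
        have : z = 1 := h.zs z hz w hw (by simpa using mul_mem (inv_mem (hA hx)) hy.1)
        simpa [this] using hx)
      fun y hy => by
        obtain ⟨h1, h2, h3⟩ := (Set.Finite.mem_toFinset _).1 hy
        refine le_trans ?_ (ih (A0 ⊔ zpowers y) ?_)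
        · rw [← Set.ncard_coe_finset]
          refine Set.ncard_le_ncard (fun w hw => ?_) (Set.toFinite _)
          rw [Finset.mem_coe, Finset.mem_bipartiteBelow, Set.Finite.mem_toFinset] at hw
          exact ⟨hw.1.1, sup_le hw.1.2 (zpowers_le.2 hw.2)⟩
        · rw [PGroup.card_sup_zpowers (p := s) (centralizer_le_normalizer _ h1)
            (fun e => h3 (mem_sup_left e)) (h2 ▸ one_mem _), ← mul_assoc, ← pow_succ, hl]
    rw [← Set.ncard_eq_toFinset_card, ← Set.ncard_eq_toFinset_card] at key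
    refine Nat.le_of_mul_le_mul_right (key.trans ((Nat.mul_le_mul_right _ hY).trans (le_of_eq ?_))) hpos
    rw [Finset.prod_range_succ]
    ring

/-- `a = s ^ (i+1)`, `κ` the largest `|fx V B_w|` (`w ∈ S`), `g = |C(A) : A|`, `g a a = |B|`,
`s ∣ g` (as `A Z ≤ C(A)`), `g + 1 ≤ κ`, `κ ^ a ≤ |V|` (`kap`).  `rcs` with `A0 = ⊥`:
`s` odd: `ρ m = s + g s^(m+1) = s (1 + g s^m)`, `num_odd`.
`s = 2`: `g = 2 g'`, `ρ m = 2 + g 2^m = 2 (1 + g' 2^m)`, `num_two` with `r m = 1 + g' 2^m`, `c = g`. -/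
theorem Pg.c2 (h : Pg B s v0 d) (hc : ∀ x y : B, ⁅x, y⁆ ∈ center B)
    (hp : ∀ x : B, x ^ s ∈ center B) : (d + 1) ^ 2 ≤ Nat.card V := by
  classical
  haveI := Fact.mk h.pr
  haveI : Nontrivial B := by
    obtain ⟨x, hx⟩ := ne_bot_iff_exists_ne_one.1 h.nb
    exact ⟨⟨x, 1, fun e => hx (Subtype.ext e)⟩⟩
  haveI := (nontrivial_iff_ne_bot _).2 h.nb
  obtain ⟨i', hi0, hi⟩ := (h.pg.to_subgroup (stabilizer B v0)).nontrivial_iff_card.1 inferInstance
  obtain ⟨i, rfl⟩ : ∃ i, i' = i + 1 := ⟨i' - 1, by omega⟩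
  obtain ⟨w, ⟨hw, ha⟩, hmax⟩ := Set.exists_max_image
    {w : V | w ≠ 1 ∧ Nat.card (stabilizer B w) = Nat.card (stabilizer B v0)}
    (fun w => Nat.card (fx V (stabilizer B w))) (Set.toFinite _) ⟨v0, h.v1, rfl⟩
  obtain ⟨hk1, hk2⟩ := h.kap hc hw ha
  set κ := Nat.card (fx V (stabilizer B w)) with hκ
  have hκ0 : 0 < κ := Nat.card_pos
  have hAC : stabilizer B w ≤ centralizer (stabilizer B w : Set B) :=
    fun x hx y hy => h.stab_comm hc hw y hy x hx
  obtain ⟨g, hg0⟩ := card_dvd_of_le hAC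
  have hpa : 0 < Nat.card (stabilizer B v0) := Nat.card_pos
  have hg : g * Nat.card (stabilizer B v0) * Nat.card (stabilizer B v0) = Nat.card B := by
    rw [← h.cen hc hw (le_refl (stabilizer B w)), hg0, ha, mul_comm g]
  have hsg : s ∣ g := by
    obtain ⟨n, hn⟩ := IsPGroup.iff_card.1 h.pg
    obtain ⟨k, -, hk⟩ := (Nat.dvd_prime_pow h.pr).1 (hn ▸ hg ▸ (dvd_mul_right g _).mul_right _ : g ∣ s ^ n)
    refine hk ▸ dvd_pow_self s fun e => ?_
    rw [e, pow_zero] at hk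
    rw [hk, mul_one] at hg0
    haveI := h.pg.center_nontrivial
    obtain ⟨z, hz⟩ := exists_ne (1 : center B)
    have : (z : B) ∈ stabilizer B w := by
      rw [eq_of_le_of_card_ge hAC hg0.le]; exact center_le_centralizer _ z.2
    exact hz (Subtype.ext (h.zs z z.2 w hw this))
  have hgp : 0 < g := Nat.pos_of_ne_zero fun e => (Nat.card_pos (α := B)).ne' (by rw [← hg, e]; simp)
  have hgk : g + 1 ≤ κ := by
    rw [← hg, mul_assoc, mul_comm] at hk2
    have := Nat.le_of_mul_le_mul_left hk2 (Nat.mul_pos hpa hpa)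
    omega
  have main : ∀ ρ : ℕ → ℕ, (∀ (w : V) (A0 : Subgroup B) (m : ℕ), w ≠ 1 →
      Nat.card (stabilizer B w) = Nat.card (stabilizer B v0) → A0 ≤ stabilizer B w →
      s ^ (m + 1) * Nat.card A0 = Nat.card (stabilizer B v0) →
      {y : B | y ∈ centralizer (A0 : Set B) ∧ y ^ s = 1 ∧ y ∉ A0 ⊔ center B}.ncard ≤
        s * ρ m * (Nat.card (stabilizer B v0) - Nat.card A0)) →
      d * g ≤ (κ - 1) * ∏ m ∈ Finset.range (i + 1), ρ m := fun ρ hρ => by
    have h1 := h.rcs hc hp (κ := κ) (fun u hu hu' => hmax u ⟨hu, hu'⟩) hρ (i + 1) ⊥ (by rw [card_bot, mul_one, hi])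
    simp only [bot_le, and_true] at h1
    have h2 := h.hd.trans (Nat.mul_le_mul_left _ h1)
    rw [Finset.prod_mul_distrib, Finset.prod_const, Finset.card_range, ← hi, ← hg] at h2
    refine Nat.le_of_mul_le_mul_left (le_of_eq_of_le ?_ (h2.trans (le_of_eq ?_))) (Nat.mul_pos hpa hpa)
    · ring
    · ring
  refine le_trans ?_ (hi ▸ hk1)
  by_cases hs : s = 2
  · obtain ⟨g', rfl⟩ := hsg
    subst hs
    refine num_two (r := fun m => 1 + g' * 2 ^ m) hgp hκ0 (by simp; omega) (fun m => ?_)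
      (main _ fun w A0 m hw ha hA hm => ?_)
    · have h1 := one_add_mul_le_pow (a := ((2 * g' : ℕ) : ℤ)) (by omega) (2 ^ m)
      have h2 : (1 + 2 * g') ^ 2 ^ m ≤ κ ^ 2 ^ m := Nat.pow_le_pow_left (by omega) _
      have h3 : 1 + 2 ^ m * (2 * g') ≤ (1 + 2 * g') ^ 2 ^ m := by exact_mod_cast h1
      show 1 + g' * 2 ^ (m + 1) ≤ _
      rw [pow_succ]
      nlinarith
    · have := (h.ycard hc hp hw ha hA hm hg).2 rfl
      refine Nat.le_of_mul_le_mul_left (this.trans (le_of_eq ?_)) two_pos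
      ring
  · have h3 : 3 ≤ s := by have := h.pr.two_le; omega
    refine num_odd h3 (le_trans (by omega) (Nat.le_of_dvd hgp hsg)) hgk
      (main _ fun w A0 m hw ha hA hm => ((h.ycard hc hp hw ha hA hm hg).1).trans (le_of_eq ?_))
    ring

end Cfsg.Lib.DG
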