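import Cfsg.Agent.Lib.DG.L0
import Cfsg.Agent.Lib.Perm.Witt

/-!
# Index of the derangement subgroup: the permutation configuration

`D ⊴ G` is transitive on `Ω` and contains all two-point stabilizers; `d = |G : D|`.
-/

set_option autoImplicit false

namespace Cfsg.Lib.DG

open Subgroup MulAction

variable {G Ω : Type*} [Group G] [MulAction G Ω]

variable (Ω) in
structure Cf (D : Subgroup G) : Prop where
  nor : D.Normal
  tr : ∀ a b : Ω, ∃ x ∈ D, x • a = b
  two : ∀ (g : G) (a b : Ω), a ≠ b → g • a = a → g • b = b → g ∈ D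

variable [Finite G] [Finite Ω] {D : Subgroup G}

/-- `Σ_{y ∈ D} |fix (g y)| = |D|` and each term is `≤ 1`. -/
theorem Cf.one [Nonempty Ω] (h : Cf Ω D) {g : G} (hg : g ∉ D) : ∃ a : Ω, g • a = a := by
  classical
  by_contra! hg0
  have := Fintype.ofFinite G
  have := Fintype.ofFinite Ω
  obtain ⟨a⟩ := ‹Nonempty Ω›
  haveI : IsPretransitive D Ω := ⟨fun a b => by
    obtain ⟨x, hx, e⟩ := h.tr a b; exact ⟨⟨x, hx⟩, e⟩⟩
  -- the map `(y, b) ↦ y` on pairs with `g y b = b` is injective and misses `1`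
  let P := Σ b : Ω, {y : D // (g * y) • b = b}
  have h1 : Nat.card P = Nat.card D := by
    rw [Nat.card_sigma, Finset.sum_congr rfl (g := fun _ => Nat.card (stabilizer D a))]
    · rw [Finset.sum_const, Finset.card_univ, smul_eq_mul, ← Nat.card_eq_fintype_card,
        ← index_stabilizer_of_transitive D a, mul_comm, card_mul_index]
    intro b _
    obtain ⟨x, hx⟩ := exists_smul_eq D a b
    obtain ⟨z, hz⟩ := exists_smul_eq D a (g⁻¹ • b)
    refine Nat.card_congr ⟨fun y => ⟨z⁻¹ * y.1 * x, ?_⟩, fun y => ⟨z * y.1 * x⁻¹, ?_⟩,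
      fun y => by simp [mul_assoc], fun y => by simp [mul_assoc]⟩
    · rw [mem_stabilizer_iff, mul_smul, mul_smul, hx, inv_smul_eq_iff, hz, eq_inv_smul_iff]
      have := y.2
      rwa [mul_smul] at this
    · have e : (z * y.1 * x⁻¹) • b = g⁻¹ • b := by
        rw [mul_smul, mul_smul, ← hx, inv_smul_smul, y.2, hz, hx]
      rw [mul_smul, ← smul_def, e, smul_inv_smul]
  have h2 : Function.Injective (fun p : P => p.2.1) := by
    rintro ⟨b, y, hy⟩ ⟨c, z, hz⟩ (rfl : y = z)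
    obtain rfl : b = c := by
      by_contra hbc
      exact hg ((D.mul_mem_cancel_right y.2).1 (h.two _ b c hbc hy hz))
    rfl
  obtain ⟨⟨b, y, hy⟩, (rfl : y = 1)⟩ := (Nat.bijective_iff_injective_and_card _).2 ⟨h2, h1⟩ |>.2 1
  exact hg0 b (by simpa using hy)

/-- `X` fixes `a`, covers `G / D` and preserves `S ∋ a`: its orbits on `S \ {a}` have size divisible
by `d`. -/
theorem Cf.dvd (h : Cf Ω D) {X : Subgroup G} (hX : X ⊔ D = ⊤) {a : Ω} (ha : ∀ x ∈ X, x • a = a)
    {S : Set Ω} (haS : a ∈ S) (hS : ∀ x ∈ X, ∀ b ∈ S, x • b ∈ S) : D.index ∣ S.ncard - 1 := by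
  haveI := h.nor
  have := dvd_set (X := X) (D.subgroupOf X) haS (fun x => ha x x.2) (fun x => hS x x.2)
    fun x b _ hb e => h.two x a b hb.symm (ha x x.2) e
  rwa [← relIndex, ← relIndex_sup_right, hX, relIndex_top_right] at this

theorem Cf.stab (h : Cf Ω D) (a : Ω) : stabilizer G a ⊔ D = ⊤ := by
  refine eq_top_iff.2 fun g _ => ?_
  obtain ⟨x, hx, e⟩ := h.tr a (g⁻¹ • a)
  have : g * x ∈ stabilizer G a := by rw [mem_stabilizer_iff, mul_smul, e, smul_inv_smul]
  simpa using mul_mem (mem_sup_left this) (mem_sup_right (D.inv_mem hx) : _ ∈ stabilizer G a ⊔ D)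

omit [Finite Ω] in
theorem Cf.half (h : Cf Ω D) (M : Subgroup G) {a : Ω} {x : G} (hx : x ∈ M) (hxa : x • a = a)
    (hxD : x ∉ D) :
    Nat.card M ≤ 2 * {g : M | (g : G) ∉ D ∧ ∃ m : M, g • m • a = m • a}.ncard := by
  classical
  let S := stabilizer M a
  have h1 : Nat.card S ≤ 2 * Nat.card {y : S // ((y : M) : G) ∉ D} := by
    have := Fintype.ofFinite S
    have e := Fintype.card_subtype_compl (fun y : S => ((y : M) : G) ∈ D)
    have e2 := Fintype.card_subtype_le (fun y : S => ((y : M) : G) ∈ D)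
    have e3 := Fintype.card_le_of_injective
      (fun y : {y : S // ((y : M) : G) ∈ D} => (⟨y.1 * ⟨⟨x, hx⟩, hxa⟩, fun hh =>
        hxD ((D.mul_mem_cancel_left y.2).1 hh)⟩ : {y : S // ¬ ((y : M) : G) ∈ D}))
      fun y z e => Subtype.ext (mul_right_cancel (congrArg Subtype.val e))
    simp only [Nat.card_eq_fintype_card]
    omega
  have h2 := Nat.card_le_card_of_injective
    (fun p : (M ⧸ S) × {y : S // ((y : M) : G) ∉ D} =>
      (⟨p.1.out * p.2.1 * p.1.out⁻¹, fun hh => p.2.2 (by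
          simpa [mul_assoc] using h.nor.conj_mem _ hh (p.1.out : G)⁻¹),
        p.1.out, by rw [mul_smul, inv_smul_smul, mul_smul, p.2.1.2]⟩ :
        {g : M | (g : G) ∉ D ∧ ∃ m : M, g • m • a = m • a})) (by
    rintro ⟨q, y⟩ ⟨r, z⟩ e
    have e1 : q.out * y.1 * q.out⁻¹ = r.out * z.1 * r.out⁻¹ := congrArg Subtype.val e
    obtain rfl : q = r := by
      have e2 : q.out • a = r.out • a := by
        by_contra hne
        refine y.2 ?_
        have := h.two ((q.out * y.1 * q.out⁻¹ : M) : G) _ _ hne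
          (by rw [← smul_def, mul_smul, inv_smul_smul, mul_smul, y.1.2])
          (by rw [← smul_def, e1, mul_smul, inv_smul_smul, mul_smul, z.1.2])
        simpa [mul_assoc] using h.nor.conj_mem _ this (q.out : G)⁻¹
      rw [← q.out_eq', ← r.out_eq']
      refine Quotient.sound' (QuotientGroup.leftRel_apply.mpr ?_)
      rw [mem_stabilizer_iff, mul_smul, ← e2, inv_smul_smul]
    have : (y.1 : M) = z.1 := by simpa using e1
    rw [Subtype.ext (Subtype.ext this : y.1 = z.1)])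
  rw [Nat.card_prod, Nat.card_coe_set_eq] at h2
  rw [← S.index_mul_card]
  calc S.index * Nat.card S ≤ S.index * (2 * Nat.card {y : S // ((y : M) : G) ∉ D}) := by gcongr
    _ = 2 * (Nat.card (M ⧸ S) * Nat.card {y : S // ((y : M) : G) ∉ D}) := by rw [index]; ring
    _ ≤ _ := by gcongr

/-- A subgroup covering `G / D` has a point stabilizer covering `G / D`. -/
theorem Cf.exO [Nonempty Ω] (h : Cf Ω D) (hD : D ≠ ⊤) {M : Subgroup G} (hM : M ⊔ D = ⊤) :
    ∃ a : Ω, (M ⊓ stabilizer G a) ⊔ D = ⊤ := by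
  haveI := h.nor
  have dec : ∀ g : G, ∃ m ∈ M, ∃ δ ∈ D, m * δ = g := fun g =>
    mem_sup_of_normal_right.1 (hM ▸ mem_top g)
  obtain ⟨x, hx, hxD⟩ : ∃ x ∈ M, x ∉ D := by
    by_contra! hh
    exact hD (eq_top_iff.2 (hM ▸ sup_le hh le_rfl))
  obtain ⟨a, ha⟩ := h.one hxD
  have key : ∀ y ∈ M, y ∉ D → ∃ m ∈ M, y • m • a = m • a := fun y hy hyD => by
    by_contra! hc
    obtain ⟨b, hb⟩ := h.one hyD
    have h1 := h.half M hx ha hxD
    have h2 := h.half M hy hb hyD
    have h3 := Set.ncard_union_eq (s := {g : M | (g : G) ∉ D ∧ ∃ m : M, g • m • a = m • a})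
      (t := {g : M | (g : G) ∉ D ∧ ∃ m : M, g • m • b = m • b}) (Set.disjoint_left.2 (by
        rintro g ⟨hg, m, hm⟩ ⟨-, n, hn⟩
        have e : m • a = n • b := by
          by_contra hne
          exact hg (h.two g _ _ hne hm hn)
        refine hc (n⁻¹ * m : M) (n⁻¹ * m).2 ?_
        rw [← smul_def, mul_smul, e, inv_smul_smul, hb]))
    have h4 := Set.ncard_lt_ncard (s := {g : M | (g : G) ∉ D ∧ ∃ m : M, g • m • a = m • a} ∪
      {g : M | (g : G) ∉ D ∧ ∃ m : M, g • m • b = m • b}) (t := Set.univ)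
      ⟨Set.subset_univ _, fun hh => by
        rcases hh (Set.mem_univ 1) with h5 | h5 <;> exact h5.1 D.one_mem⟩
    rw [Set.ncard_univ] at h4
    omega
  refine ⟨a, ?_⟩
  set H := (M ⊓ stabilizer G a) ⊔ D
  have := (Misc.transitive_of_derangements_mem (X := G ⧸ H) (⊥ : Subgroup G) fun g hg => by
    exfalso
    obtain ⟨y, hy, δ, hδ, rfl⟩ := dec g
    by_cases hyD : y ∈ D
    · exact hg ((1 : G) : G ⧸ H) (QuotientGroup.eq.2 (by
        simpa using H.inv_mem (mem_sup_right (D.mul_mem hyD hδ))))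
    obtain ⟨m, hm, e⟩ := key y hy hyD
    refine hg (m : G ⧸ H) (QuotientGroup.eq.2 ?_)
    have e1 : m⁻¹ * y * m ∈ H := mem_sup_left (mem_inf.2 ⟨M.mul_mem (M.mul_mem (M.inv_mem hm) hy) hm, by
      rw [mem_stabilizer_iff, mul_smul, mul_smul, e, inv_smul_smul]⟩)
    have e2 : m⁻¹ * δ * m ∈ H := mem_sup_right (by simpa using h.nor.conj_mem δ hδ m⁻¹)
    simpa [mul_assoc] using H.inv_mem (H.mul_mem e1 e2)).1
  refine eq_top_iff.2 fun g _ => ?_
  obtain ⟨⟨z, hz⟩, e⟩ := this.exists_smul_eq ((1 : G) : G ⧸ H) (g : G ⧸ H)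
  obtain rfl := mem_bot.1 hz
  have e' : ((1 : G) : G ⧸ H) = (g : G ⧸ H) := by simpa using e
  simpa using QuotientGroup.eq.1 e'

end Cfsg.Lib.DG
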