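import Cfsg.Agent.Lib.DG.Main

/-!
# Index of the derangement subgroup: the dichotomy
-/

set_option autoImplicit false

namespace Cfsg.Lib.DG

open Subgroup MulAction

theorem dich {G Ω : Type*} [Group G] [Finite G] [MulAction G Ω] [FaithfulSMul G Ω] [Finite Ω]
    [IsPretransitive G Ω] (h4 : 4 ≤ Nat.card Ω) :
    ((closure {g : G | ∀ ω : Ω, g • ω ≠ ω}).index : ℝ) ≤ Real.sqrt (Nat.card Ω) - 1 ∨
      ((∃ R : Subgroup G, R.Normal ∧ R ≠ ⊥ ∧ ∀ x ∈ R, ∀ y ∈ R, Commute x y) ∧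
        (∃ g : G, g ≠ 1 ∧ ∃ ω : Ω, g • ω = ω) ∧
        ∀ (g : G) (a b : Ω), a ≠ b → g • a = a → g • b = b → g = 1) := by
  set D := closure {g : G | ∀ ω : Ω, g • ω ≠ ω}
  haveI : Nonempty Ω := (Nat.card_pos_iff.1 (by omega)).1
  obtain ⟨h1, h2⟩ := Misc.transitive_of_derangements_mem (X := Ω) D fun g hg => Subgroup.subset_closure hg
  have h : Cf Ω D := ⟨⟨fun n hn g => by
      induction hn using Subgroup.closure_induction with
      | mem x hx =>
        refine Subgroup.subset_closure fun ω e => hx (g⁻¹ • ω) ?_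
        rw [mul_smul, mul_smul, smul_eq_iff_eq_inv_smul] at e; exact e
      | one => simp
      | mul x y _ _ hx hy => simpa [mul_assoc] using D.mul_mem hx hy
      | inv x _ hx => simpa [mul_assoc] using D.inv_mem hx⟩,
    fun a b => by obtain ⟨x, e⟩ := h1.exists_smul_eq a b; exact ⟨x, x.2, e⟩,
    fun g a b hab => Misc.mem_of_fixes_two h2 hab⟩
  by_cases hn : (D.index + 1) ^ 2 ≤ Nat.card Ω
  · left
    rw [le_sub_iff_add_le]
    exact Real.le_sqrt_of_sq_le (by exact_mod_cast hn)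
  right
  have hD : D ≠ ⊤ := fun e => hn (by rw [e, index_top]; exact h4)
  obtain ⟨h5, h6⟩ := h.frob hD (by omega) (not_le.1 hn)
  obtain ⟨g, hg⟩ := not_forall.1 (mt (eq_top_iff' D).2 hD)
  exact ⟨h5, ⟨g, fun e => hg (e ▸ D.one_mem), h.one hg⟩, h6⟩

end Cfsg.Lib.DG
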