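import Cfsg.Agent.Lib.FGS.Basic
import Cfsg.Agent.Lib.Misc.Derangement
import Cfsg.Agent.Lib.Perm.Witt
import Cfsg.Agent.Lib.PGroup.RankOne

/-!
# Index of the derangement subgroup: linear tools

`E` acts on a finite abelian group `V`; `E0 ⊴ E` contains all stabilizers of non-identity vectors.
-/

set_option autoImplicit false

namespace Cfsg.Lib.DG

open Subgroup MulAction

variable {E V : Type*} [Group E] [CommGroup V] [MulDistribMulAction E V]

variable (V) in
/-- `B` is semiregular on the non-identity vectors. -/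
def Sr (B : Subgroup E) : Prop := ∀ x ∈ B, ∀ v : V, v ≠ 1 → x • v = v → x = 1

variable (V) in
/-- Fixed vectors of `A`. -/
def fx (A : Subgroup E) : Subgroup V where
  carrier := {v | ∀ x ∈ A, x • v = v}
  mul_mem' := fun {a b} ha hb x hx => by rw [smul_mul', ha x hx, hb x hx]
  one_mem' := fun x _ => smul_one x
  inv_mem' := fun {a} ha x hx => by rw [smul_inv', ha x hx]

theorem mem_fx {A : Subgroup E} {v : V} : v ∈ fx V A ↔ ∀ x ∈ A, x • v = v := Iff.rfl

variable (V) in
/-- The linear configuration. -/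
structure La (E0 : Subgroup E) : Prop where
  nor : E0.Normal
  st : ∀ (x : E) (v : V), v ≠ 1 → x • v = v → x ∈ E0

theorem Sr.mono {B C : Subgroup E} (h : Sr V B) (hC : C ≤ B) : Sr V C :=
  fun x hx => h x (hC hx)

/-- `n = x * y`, `x, y > 1`, `d ∣ x - 1`, `d ∣ n - 1`. -/
theorem sq_le_of_dvd {d x y : ℕ} (hx : 1 < x) (hy : 1 < y) (h1 : d ∣ x - 1)
    (h2 : d ∣ x * y - 1) : (d + 1) ^ 2 ≤ x * y :=by
  have h3 : d ∣ y - 1 := by
    have e : x * y - 1 = (x - 1) * y + (y - 1) := by
      obtain ⟨x, rfl⟩ : ∃ k, x = k + 1 := ⟨x - 1, by omega⟩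
      obtain ⟨y, rfl⟩ : ∃ k, y = k + 1 := ⟨y - 1, by omega⟩
      simp only [Nat.add_sub_cancel]
      rw [show (x + 1) * (y + 1) = x * (y + 1) + y + 1 by ring, Nat.add_sub_cancel]
    rw [e] at h2
    exact (Nat.dvd_add_right (h1.mul_right y)).1 h2
  have a := Nat.le_of_dvd (by omega) h1
  have b := Nat.le_of_dvd (by omega) h3
  rw [sq]
  exact Nat.mul_le_mul (by omega) (by omega)

theorem dvd_set {X α : Type*} [Group X] [MulAction X α] [Finite α] (X0 : Subgroup X)
    {S : Set α} {a : α} (haS : a ∈ S) (ha : ∀ x : X, x • a = a) (hS : ∀ x : X, ∀ b ∈ S, x • b ∈ S)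
    (hst : ∀ x : X, ∀ b ∈ S, b ≠ a → x • b = b → x ∈ X0) : X0.index ∣ S.ncard - 1 := by
  let T : SubMulAction X α := ⟨S, fun x {b} hb => hS x b hb⟩
  have := Misc.dvd_card_sub_one_of_orbits (G := X) (X := T) (k := X0.index) ⟨a, haS⟩
    (fun g => Subtype.ext (ha g)) fun b hb => by
      rw [← index_stabilizer]
      exact index_dvd_of_le fun x hx =>
        hst x b.1 b.2 (fun e => hb (Subtype.ext e)) (congrArg Subtype.val hx)
  exact this

theorem La.dvd [Finite E] [Finite V] {E0 : Subgroup E} (h : La V E0) (U : Subgroup V)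
    (hU : ∀ x : E, ∀ u ∈ U, x • u ∈ U) : E0.index ∣ Nat.card U - 1 :=
  dvd_set E0 (S := (U : Set V)) U.one_mem (fun x => smul_one x) hU fun x b _ hb => h.st x b hb

theorem La.red [Finite E] [Finite V] {E0 : Subgroup E} (h : La V E0) (U : Subgroup V)
    (hU : ∀ x : E, ∀ u ∈ U, x • u ∈ U) (h1 : U ≠ ⊥) (h2 : U ≠ ⊤) :
    (E0.index + 1) ^ 2 ≤ Nat.card V :=by
  have a := h.dvd U hU
  have b := h.dvd ⊤ fun _ _ _ => trivial
  rw [card_top, ← U.card_mul_index] at b
  rw [← U.card_mul_index]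
  exact sq_le_of_dvd ((one_lt_card_iff_ne_bot U).2 h1) (one_lt_index_of_ne_top h2) a b

/-- The orbit of `v` has size `|E : E0| * |E0 : E_v| ≥ |E : E0| * |B : B_v|`. -/
theorem La.orb [Finite E] [Finite V] {E0 : Subgroup E} (h : La V E0) {B : Subgroup E}
    (hB : B ≤ E0) {v : V} (hv : v ≠ 1) {S : Set V} (hS : ∀ x : E, x • v ∈ S) :
    E0.index * Nat.card B ≤ Nat.card (B ⊓ stabilizer E v : Subgroup E) * S.ncard :=by
  have h1 : (stabilizer E v).index ≤ S.ncard := by
    rw [index_stabilizer]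
    exact Set.ncard_le_ncard (by rintro _ ⟨x, rfl⟩; exact hS x) (Set.toFinite _)
  have h2 : stabilizer E v ≤ E0 := fun x hx => h.st x v hv hx
  have h3 : (stabilizer E v).relIndex B ≤ (stabilizer E v).relIndex E0 :=
    relIndex_le_of_le_right hB index_ne_zero_of_finite
  have h4 := relIndex_mul_index h2
  have h5 : (stabilizer E v).relIndex B * Nat.card (B ⊓ stabilizer E v : Subgroup E) = Nat.card B := by
    rw [← inf_relIndex_left, mul_comm]
    have := card_mul_index ((B ⊓ stabilizer E v).subgroupOf B)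
    rwa [Nat.card_congr (subgroupOfEquivOfLe inf_le_left).toEquiv] at this
  rw [← h5]
  calc E0.index * ((stabilizer E v).relIndex B * Nat.card (B ⊓ stabilizer E v : Subgroup E))
      ≤ E0.index * ((stabilizer E v).relIndex E0 * Nat.card (B ⊓ stabilizer E v : Subgroup E)) := by
        gcongr
    _ = Nat.card (B ⊓ stabilizer E v : Subgroup E) * (stabilizer E v).index := by rw [← h4]; ring
    _ ≤ _ := by gcongr

theorem norm_one {s : ℕ} {u : E} (hu : u ^ s = 1) {U : Subgroup V} (hU : ∀ v ∈ U, u • v ∈ U)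
    (hf : ∀ v ∈ U, u • v = v → v = 1) {v : V} (hv : v ∈ U) :
    ∏ k ∈ Finset.range s, (u ^ k) • v = 1 := by
  have hk : ∀ k : ℕ, (u ^ k) • v ∈ U := fun k => by
    induction k with
    | zero => simpa using hv
    | succ k ih => rw [pow_succ', mul_smul]; exact hU _ ih
  refine hf _ (U.prod_mem fun k _ => hk k) ?_
  have e1 := Finset.prod_range_succ (fun k => (u ^ k) • v) s
  have e2 := Finset.prod_range_succ' (fun k => (u ^ k) • v) s
  rw [e1, hu, pow_zero] at e2
  rw [Finset.smul_prod', mul_right_cancel e2]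
  exact Finset.prod_congr rfl fun k _ => by rw [pow_succ', mul_smul]

/-- An elementary abelian group of rank two is not semiregular. -/
theorem fixpair [Finite V] {s : ℕ} (hs : s.Prime) {x y : E} (hxy : Commute x y) (hx : x ^ s = 1)
    (hy : y ^ s = 1) {U : Subgroup V} (hU : U ≠ ⊥) (hxU : ∀ u ∈ U, x • u ∈ U)
    (hyU : ∀ u ∈ U, y • u ∈ U) :
    ∃ w ∈ U, w ≠ 1 ∧ (y • w = w ∨ ∃ j : ℕ, (x * y ^ j) • w = w) := by
  by_contra hcon
  push Not at hcon
  haveI := Fact.mk hs
  have hpw : ∀ (z : E), (∀ u ∈ U, z • u ∈ U) → ∀ k : ℕ, ∀ u ∈ U, (z ^ k) • u ∈ U := fun z hz k => by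
    induction k with
    | zero => simp
    | succ k ih => intro u hu; rw [pow_succ', mul_smul]; exact hz _ (ih u hu)
  have hv : ∀ v ∈ U, v ^ s = 1 := fun v hv => by
    have h1 : ∏ j ∈ Finset.range s, ∏ k ∈ Finset.range s, ((x * y ^ j) ^ k) • v = 1 :=
      Finset.prod_eq_one fun j _ => norm_one
        (by rw [(hxy.pow_right j).mul_pow, hx, ← pow_mul, mul_comm j, pow_mul, hy, one_pow, mul_one])
        (fun u hu => by rw [mul_smul]; exact hxU _ (hpw y hyU j u hu))
        (fun u hu e => by by_contra h; exact (hcon u hu h).2 j e) hv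
    rw [Finset.prod_comm, Finset.prod_eq_single 0] at h1
    · simpa using h1
    · intro k hk hk0
      have hk' := Finset.mem_range.1 hk
      obtain ⟨m, hm⟩ := exists_pow_eq_self_of_coprime (x := y) (n := k)
        ((Nat.coprime_of_lt_prime hk0 hk' hs).symm.coprime_dvd_right (orderOf_dvd_of_pow_eq_one hy))
      have h2 := norm_one (s := s) (u := y ^ k) (by rw [← pow_mul, mul_comm, pow_mul, hy, one_pow])
        (hpw y hyU k) (fun u hu e => by
          by_contra h
          refine (hcon u hu h).1 ?_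
          rw [← hm]
          exact (stabilizer E u).pow_mem e m) (hpw x hxU k v hv)
      rw [← h2]
      refine Finset.prod_congr rfl fun j _ => ?_
      rw [(hxy.pow_right j).mul_pow, ← mul_smul, ← pow_mul, ← pow_mul, mul_comm j k,
        (hxy.pow_pow k (k * j)).eq]
    · intro h; exact absurd (Finset.mem_range.2 hs.pos) h
  have hp : IsPGroup s U := fun v => ⟨1, Subtype.ext (by simpa using hv v v.2)⟩
  obtain ⟨n, hn0, hn⟩ := hp.nontrivial_iff_card.1 ((nontrivial_iff_ne_bot U).2 hU)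
  obtain ⟨w, hw, h2⟩ := Perm.exists_fixed_of_not_dvd (α := V) (P := zpowers y) (p := s)
    (Inv.isPGroup_zpowers (k := 1) (by simpa using hy)) (s := (U : Set V) \ {1})
    (by
      rintro _ ⟨k, rfl⟩ v ⟨h1, h2⟩
      refine ⟨?_, fun e => h2 (by simpa using congrArg ((y ^ k)⁻¹ • ·) (e : y ^ k • v = 1))⟩
      obtain ⟨m, hm⟩ : ∃ m : ℕ, y ^ m = y ^ k := by
        have := (isOfFinOrder_iff_pow_eq_one.2 ⟨s, hs.pos, hy⟩).mem_powers_iff_mem_zpowers.2
          (⟨k, rfl⟩ : y ^ k ∈ zpowers y)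
        exact this
      simp only [← hm]
      exact hpw y hyU m v h1)
    (by
      rw [Set.ncard_diff_singleton_of_mem U.one_mem, ← Nat.card_coe_set_eq, SetLike.coe_sort_coe, hn]
      intro h
      have := (Nat.dvd_sub_iff_right (Nat.one_le_pow _ _ hs.pos) (dvd_pow_self s hn0.ne')).1 h
      exact hs.one_lt.ne' (Nat.dvd_one.1 this))
  exact (hcon w hw.1 hw.2).1 (h2 y (mem_zpowers y))

/-- In a semiregular group two commuting elements of order `s` generate the same subgroup. -/
theorem Sr.mem_zp [Finite V] [Nontrivial V] {B : Subgroup E} (h : Sr V B) {s : ℕ} (hs : s.Prime)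
    {x y : E} (hxB : x ∈ B) (hyB : y ∈ B) (hxy : Commute x y) (hx : x ^ s = 1) (hy : y ^ s = 1)
    (hy1 : y ≠ 1) : x ∈ zpowers y := by
  obtain ⟨w, -, hw, h1 | ⟨j, h1⟩⟩ := fixpair (V := V) hs hxy hx hy (U := ⊤) top_ne_bot
    (fun _ _ => trivial) fun _ _ => trivial
  · exact absurd (h y hyB w hw h1) hy1
  · have := h _ (B.mul_mem hxB (B.pow_mem hyB j)) w hw h1
    rw [mul_eq_one_iff_eq_inv.1 this]
    exact inv_mem (pow_mem (mem_zpowers y) j)

theorem Sr.cyc [Finite E] [Finite V] [Nontrivial V] {B : Subgroup E} (h : Sr V B) {s : ℕ}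
    (hs : s.Prime) (hp : IsPGroup s B) (hc : ∀ x ∈ B, ∀ y ∈ B, Commute x y) : IsCyclic B := by
  haveI := Fact.mk hs
  refine PGroup.isCyclic_of_isMulCommutative_of_pRankLE_one hp
    ⟨⟨fun a b => Subtype.ext (hc a a.2 b b.2).eq⟩⟩ (PGroup.pRankLE_one_of_unique_subgroup fun H K hH hK => ?_)
  have key : ∀ H K : Subgroup B, Nat.card H = s → Nat.card K = s → H ≤ K := fun H K hH hK x hx => by
    obtain ⟨⟨y, hy⟩, hy1⟩ := ne_bot_iff_exists_ne_one.1 ((one_lt_card_iff_ne_bot K).1 (hK ▸ hs.one_lt))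
    have e1 : x ^ s = 1 := by
      have := pow_card_eq_one' (x := (⟨x, hx⟩ : H)); rw [hH] at this; exact congrArg Subtype.val this
    have e2 : y ^ s = 1 := by
      have := pow_card_eq_one' (x := (⟨y, hy⟩ : K)); rw [hK] at this; exact congrArg Subtype.val this
    obtain ⟨k, hk⟩ := h.mem_zp hs x.2 y.2 (hc _ x.2 _ y.2) (congrArg Subtype.val e1)
      (congrArg Subtype.val e2) (fun e => hy1 (Subtype.ext (Subtype.ext e)))
    have : x = y ^ k := Subtype.ext hk.symm
    rw [this]
    exact K.zpow_mem hy k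
  exact le_antisymm (key H K hH hK) (key K H hK hH)

/-- The fixed spaces of the conjugates of a maximal stabilizer inside an abelian normal subgroup
are independent. -/
theorem conjInd [Finite E] [Finite V] (A : Subgroup E)
    (hc : ∀ x ∈ A, ∀ y ∈ A, ∀ g : E, Commute x (g * y * g⁻¹))
    (hm : ∀ w ∈ fx V A, w ≠ 1 → ∀ x ∈ A, ∀ g : E, (g * x * g⁻¹) • w = w → g * x * g⁻¹ ∈ A) :
    Nat.card (fx V A) ^ (normalizer (A : Set E)).index ≤ Nat.card V := by
  classical
  have := Fintype.ofFinite (E ⧸ normalizer (A : Set E))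
  have key : ∀ (s : Finset (E ⧸ normalizer (A : Set E))) (f : E ⧸ normalizer (A : Set E) → V),
      (∀ q, f q ∈ fx V A) → ∏ q ∈ s, q.out • f q = 1 → ∀ q ∈ s, f q = 1 := by
    intro s
    induction s using Finset.induction_on with
    | empty => simp
    | insert j s hj ih =>
      intro f hf hp
      rw [Finset.prod_insert hj] at hp
      have h1 : ∀ i ∈ s, f i = 1 := fun i hi => by
        obtain ⟨x, hx, hxi⟩ : ∃ x ∈ A, (i.out⁻¹ * j.out) * x * (i.out⁻¹ * j.out)⁻¹ ∉ A := by
          by_contra! hh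
          have h2 : i.out⁻¹ * j.out ∈ normalizer (A : Set E) := mem_normalizer_fintype hh
          have : i = j := by
            rw [← i.out_eq', ← j.out_eq']
            exact Quotient.sound' (QuotientGroup.leftRel_apply.mpr h2)
          exact hj (this ▸ hi)
        have hP : (j.out * x * j.out⁻¹) • ∏ q ∈ s, q.out • f q = ∏ q ∈ s, q.out • f q := by
          rw [eq_inv_of_mul_eq_one_right hp, smul_inv', ← mul_smul, inv_mul_cancel_right, mul_smul,
            hf j x hx]
        have h3 := ih (fun q => ((q.out⁻¹ * j.out) * x * (q.out⁻¹ * j.out)⁻¹) • f q / f q)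
          (fun q => (fx V A).div_mem (fun z hz => by
            rw [← mul_smul, (hc z hz x hx _).eq, mul_smul, hf q z hz]) (hf q)) (by
            rw [← div_eq_one.2 hP, Finset.smul_prod', ← Finset.prod_div_distrib]
            refine Finset.prod_congr rfl fun q _ => ?_
            rw [smul_div', ← mul_smul, ← mul_smul]
            congr 2
            group) i hi
        by_contra h4
        exact hxi (hm _ (hf i) h4 x hx _ (div_eq_one.1 h3))
      rw [Finset.prod_eq_one fun q hq => by rw [h1 q hq, smul_one], mul_one] at hp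
      intro q hq
      rcases Finset.mem_insert.1 hq with rfl | hq
      · simpa using congrArg (q.out⁻¹ • ·) hp
      · exact h1 q hq
  let φ : (E ⧸ normalizer (A : Set E) → fx V A) →* V :=
    { toFun := fun f => ∏ q, q.out • (f q : V)
      map_one' := by simp
      map_mul' := fun f g => by simp [smul_mul', Finset.prod_mul_distrib] }
  have hφ : Function.Injective φ := (injective_iff_map_eq_one φ).2 fun f hf =>
    funext fun q => Subtype.ext (key Finset.univ (fun q => f q) (fun q => (f q).2) hf q (Finset.mem_univ q))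
  have := Nat.card_le_card_of_injective φ hφ
  rwa [Nat.card_fun] at this

theorem La.sub {E0 : Subgroup E} (h : La V E0) (X : Subgroup E) : La V (E0.subgroupOf X) :=
  ⟨h.nor.subgroupOf X, fun x v hv e => h.st x v hv e⟩

theorem bern (δ : ℕ) {j : ℕ} (hj : 2 ≤ j) : (j * δ + 1) ^ 2 ≤ (2 * δ + 1) ^ j := by
  induction j, hj using Nat.le_induction with
  | base => exact le_rfl
  | succ j hj ih =>
    rw [pow_succ (2 * δ + 1)]
    refine le_trans ?_ (Nat.mul_le_mul_right _ ih)
    obtain ⟨k, rfl⟩ : ∃ k, j = k + 1 := ⟨j - 1, by omega⟩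
    have : (((k + 1) * δ + 1) ^ 2 * (2 * δ + 1)) = ((k + 1 + 1) * δ + 1) ^ 2 +
      (2 * δ ^ 3 * (k + 1) ^ 2 + δ ^ 2 * (2 * k + 1)) := by ring
    omega

theorem smul_mem_fx {A : Subgroup E} {x : E} (hx : x ∈ normalizer (A : Set E)) {u : V}
    (hu : u ∈ fx V A) : x • u ∈ fx V A := fun a ha => by
  have := hu _ ((mem_normalizer_iff''.1 hx a).1 ha)
  rw [mul_smul, mul_smul, inv_smul_eq_iff] at this
  exact this

/-- Abelian normal subgroups inside `E0` are semiregular. -/
theorem La.ab [Finite E] [Finite V] [FaithfulSMul E V] {E0 : Subgroup E} (h : La V E0)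
    {B : Subgroup E} [B.Normal] (hB : B ≤ E0) (hc : ∀ x ∈ B, ∀ y ∈ B, Commute x y)
    (hn : ¬ Sr V B) : (E0.index + 1) ^ 2 ≤ Nat.card V := by
  simp only [Sr, not_forall] at hn
  obtain ⟨x0, hx0, v0, hv0, e0, h0⟩ := hn
  obtain ⟨v, hv, hmax⟩ := Set.exists_max_image {v : V | v ≠ 1}
    (fun v => Nat.card (B ⊓ stabilizer E v : Subgroup E)) (Set.toFinite _) ⟨v0, hv0⟩
  set A := B ⊓ stabilizer E v with hA
  have hA1 : A ≠ ⊥ := (one_lt_card_iff_ne_bot A).1 (lt_of_lt_of_le ((one_lt_card_iff_ne_bot _).2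
    (ne_bot_iff_exists_ne_one.2 ⟨⟨x0, mem_inf.2 ⟨hx0, e0⟩⟩, fun e => h0 (congrArg Subtype.val e)⟩)) (hmax v0 hv0))
  have hm : ∀ w ∈ fx V A, w ≠ 1 → B ⊓ stabilizer E w = A := fun w hw h1 =>
    (eq_of_le_of_card_ge (le_inf inf_le_left fun x hx => hw x hx) (hmax w h1)).symm
  have hvA : v ∈ fx V A := fun x hx => hx.2
  by_cases hN : normalizer (A : Set E) = ⊤
  · refine h.red (fx V A) (fun x u hu => smul_mem_fx (hN ▸ mem_top x) hu)
      (ne_bot_iff_exists_ne_one.2 ⟨⟨v, hvA⟩, fun e => hv (congrArg Subtype.val e)⟩) fun e => hA1 ?_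
    refine eq_bot_iff.2 fun x hx => mem_bot.2 (eq_of_smul_eq_smul (α := V) fun u => ?_)
    rw [one_smul]
    exact (e ▸ mem_top u : u ∈ fx V A) x hx
  set X := normalizer (A : Set E) with hX
  have hBn : B.Normal := inferInstance
  have h1 := conjInd (V := V) A (fun x hx y hy g => hc x hx.1 _ (hBn.conj_mem y hy.1 g))
    fun w hw h1 x hx g e => hm w hw h1 ▸ (⟨hBn.conj_mem x hx.1 g, e⟩ : _ ∈ B ⊓ stabilizer E w)
  have hBX : B ≤ X := fun b hb => mem_normalizer_fintype fun a ha => by
    rw [(hc b hb a ha.1).eq, mul_inv_cancel_right]; exact ha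
  have h2 := (h.sub X).orb (B := B.subgroupOf X) (subgroupOf_mono X hB) hv
    (S := (fx V A : Set V) \ {1}) fun x =>
      ⟨smul_mem_fx x.2 hvA, fun e => hv (by simpa using congrArg (x⁻¹ • ·) (e : x • v = 1))⟩
  have e1 : B.subgroupOf X ⊓ stabilizer X v = A.subgroupOf X := by ext; rfl
  rw [e1, Nat.card_congr (subgroupOfEquivOfLe hBX).toEquiv,
    Nat.card_congr (subgroupOfEquivOfLe (inf_le_left.trans hBX : A ≤ X)).toEquiv,
    Set.ncard_diff_singleton_of_mem (fx V A).one_mem, ← Nat.card_coe_set_eq, SetLike.coe_sort_coe] at h2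
  have h3 : 2 * Nat.card A ≤ Nat.card B := by
    obtain ⟨k, hk⟩ := card_dvd_of_le (inf_le_left : A ≤ B)
    have hk1 : k ≠ 1 := fun e => hN (by
      have : A = B := eq_of_le_of_card_ge inf_le_left (by rw [hk, e, mul_one])
      rw [hX, this]; exact normalizer_eq_top B)
    have hk0 : k ≠ 0 := fun e => (Nat.card_pos (α := B)).ne' (by rw [hk, e, mul_zero])
    rw [hk, mul_comm]
    exact Nat.mul_le_mul_left _ (by omega)
  have h4 : 2 * (E0.subgroupOf X).index + 1 ≤ Nat.card (fx V A) := by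
    have hp : 0 < Nat.card A := Nat.card_pos
    have hp' : 0 < Nat.card (fx V A) := Nat.card_pos
    have : Nat.card A * (2 * (E0.subgroupOf X).index) ≤ Nat.card A * (Nat.card (fx V A) - 1) :=
      le_trans (le_of_eq_of_le (by ring) (Nat.mul_le_mul_left _ h3)) h2
    have := Nat.le_of_mul_le_mul_left this hp
    omega
  have h5 : E0.index ≤ X.index * (E0.subgroupOf X).index := by
    have := relIndex_mul_index (inf_le_right : E0 ⊓ X ≤ X)
    rw [inf_relIndex_right] at this
    rw [mul_comm]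
    exact le_of_le_of_eq (Nat.le_of_dvd (Nat.pos_of_ne_zero index_ne_zero_of_finite)
      (index_dvd_of_le inf_le_left)) this.symm
  calc (E0.index + 1) ^ 2 ≤ (X.index * (E0.subgroupOf X).index + 1) ^ 2 := by gcongr
    _ ≤ (2 * (E0.subgroupOf X).index + 1) ^ X.index := bern _ (one_lt_index_of_ne_top hN)
    _ ≤ Nat.card (fx V A) ^ X.index := by gcongr
    _ ≤ _ := h1

/-- An `s`-group `B` acting on `V` with semiregular centre, a vector `v0` with stabilizer of
maximal order `a > 1`, and `d |B| ≤ a |S|` for the set `S` of all such vectors. -/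
structure Pg (B : Type*) [Group B] [MulDistribMulAction B V] (s : ℕ) (v0 : V) (d : ℕ) : Prop where
  pr : s.Prime
  pg : IsPGroup s B
  zs : Sr V (center B)
  v1 : v0 ≠ 1
  mx : ∀ w : V, w ≠ 1 → Nat.card (stabilizer B w) ≤ Nat.card (stabilizer B v0)
  nb : stabilizer B v0 ≠ ⊥
  hd : d * Nat.card B ≤ Nat.card (stabilizer B v0) *
    {w : V | w ≠ 1 ∧ Nat.card (stabilizer B w) = Nat.card (stabilizer B v0)}.ncard

end Cfsg.Lib.DG
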