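import Cfsg.Agent.Lib.DG.PG

/-!
# Index of the derangement subgroup: the linear theorem
-/

set_option autoImplicit false

namespace Cfsg.Lib.DG

open Subgroup MulAction

universe u

theorem La.nrm {E V : Type*} [Group E] [CommGroup V] [MulDistribMulAction E V]
    [Finite E] [Finite V] [FaithfulSMul E V] {E0 : Subgroup E} (h : La V E0) {s : ℕ} (hs : s.Prime)
    {Q : Subgroup E} (hQ : Q.Normal) (hp : IsPGroup s Q) (hQ0 : Q ≤ E0) (hn : ¬ Sr V Q) :
    (E0.index + 1) ^ 2 ≤ Nat.card V := by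
  obtain ⟨B, ⟨hB, hBQ, hBn⟩, hmin⟩ := Set.exists_min_image
    {B : Subgroup E | B.Normal ∧ B ≤ Q ∧ ¬ Sr V B} (fun B => Nat.card B) (Set.toFinite _)
    ⟨Q, hQ, le_rfl, hn⟩
  have tr : ∀ C : Subgroup B, Sr V (C.map B.subtype) → Sr V C := fun C hC x hx v hv e =>
    Subtype.ext (hC x ⟨x, hx, rfl⟩ v hv e)
  by_cases hZ : Sr V ((center B).map B.subtype)
  swap
  · refine h.ab ((map_subtype_le _).trans (hBQ.trans hQ0)) ?_ hZ
    rintro _ ⟨x, hx, rfl⟩ _ ⟨y, -, rfl⟩
    exact congrArg Subtype.val (mem_center_iff.1 hx y).symm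
  simp only [Sr, not_forall] at hBn
  obtain ⟨x0, hx0, w0, hw0, e0, h0⟩ := hBn
  obtain ⟨v, hv, hmax⟩ := Set.exists_max_image {v : V | v ≠ 1}
    (fun v => Nat.card (stabilizer B v)) (Set.toFinite _) ⟨w0, hw0⟩
  refine Pg.main (B := B) (s := s) (v0 := v) ⟨hs, hp.to_le hBQ, tr _ hZ, hv, hmax, ?_, ?_⟩ ?_
  · exact (one_lt_card_iff_ne_bot _).1 (lt_of_lt_of_le ((one_lt_card_iff_ne_bot _).2
      (ne_bot_iff_exists_ne_one.2 ⟨⟨⟨x0, hx0⟩, e0⟩, fun e =>
        h0 (congrArg (fun z => (z.1 : E)) e)⟩)) (hmax w0 hw0))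
  · have e : Nat.card (B ⊓ stabilizer E v : Subgroup E) = Nat.card (stabilizer B v) := by
      rw [← Nat.card_congr (subgroupOfEquivOfLe (inf_le_left : B ⊓ stabilizer E v ≤ B)).toEquiv,
        inf_subgroupOf_left]
      rfl
    have := h.orb (hBQ.trans hQ0) hv
      (S := {w : V | w ≠ 1 ∧ Nat.card (stabilizer B w) = Nat.card (stabilizer B v)}) fun x =>
      ⟨fun e => hv (by simpa using congrArg (x⁻¹ • ·) e), Nat.card_congr
        ⟨fun y => ⟨⟨x⁻¹ * y.1 * x, by simpa using hB.conj_mem _ y.1.2 x⁻¹⟩, by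
            have : (y.1 : E) • x • v = x • v := y.2
            change (x⁻¹ * y.1 * x) • v = v
            rw [mul_smul, mul_smul, this, inv_smul_smul]⟩,
          fun y => ⟨⟨x * y.1 * x⁻¹, hB.conj_mem _ y.1.2 x⟩, by
            have : (y.1 : E) • v = v := y.2
            change (x * y.1 * x⁻¹) • x • v = x • v
            rw [mul_smul, inv_smul_smul, mul_smul, this]⟩,
          fun y => by ext; simp [mul_assoc], fun y => by ext; simp [mul_assoc]⟩⟩
    rwa [e] at this
  · intro C hC hCt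
    refine tr C ?_
    by_contra hc
    have h1 := hmin (C.map B.subtype) ⟨inferInstance, (map_subtype_le _).trans hBQ, hc⟩
    rw [card_map_of_injective B.subtype_injective] at h1
    exact hCt (eq_of_le_of_card_ge le_top (by rwa [card_top]))

theorem La.main {E : Type u} {V : Type*} [Group E] [CommGroup V] [MulDistribMulAction E V]
    [Finite E] [Finite V] [FaithfulSMul E V] {E0 : Subgroup E} (h : La V E0)
    (hn : ¬ Sr V (⊤ : Subgroup E)) : (E0.index + 1) ^ 2 ≤ Nat.card V := by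
  induction hc : Nat.card E using Nat.strong_induction_on generalizing E with
  | _ n ih =>
  simp only [Sr, not_forall] at hn
  obtain ⟨x, -, v, hv, e, hx⟩ := hn
  obtain ⟨s, hs, hsd⟩ := Nat.exists_prime_and_dvd (fun e => hx (orderOf_eq_one_iff.1 e))
  haveI := Fact.mk hs
  haveI := h.nor
  have ho : orderOf (x ^ (orderOf x / s)) = s := orderOf_pow_orderOf_div (orderOf_pos x).ne' hsd
  set y := x ^ (orderOf x / s)
  have hyv : y • v = v := (stabilizer E v).pow_mem e _
  have hy1 : y ≠ 1 := fun e => hs.one_lt.ne' (by rw [← ho, e, orderOf_one])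
  have hy0 := h.st y v hv hyv
  obtain ⟨Q, hQ⟩ := (Inv.isPGroup_zpowers (p := s) (k := 1) (x := (⟨y, hy0⟩ : E0))
    (Subtype.ext (by simp [← ho, pow_orderOf_eq_one]))).exists_le_sylow
  have hyQ : y ∈ (Q : Subgroup E0).map E0.subtype := ⟨⟨y, hy0⟩, hQ (mem_zpowers _), rfl⟩
  have hF := Q.normalizer_sup_eq_top
  set Q' := (Q : Subgroup E0).map E0.subtype
  by_cases hN : normalizer (Q' : Set E) = ⊤
  · exact h.nrm hs (normalizer_eq_top_iff.1 hN) (Q.2.map _) (map_subtype_le _)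
      fun hh => hy1 (hh y hyQ v hv hyv)
  have := ih _ (hc ▸ (Finite.card_subtype_lt (Classical.choose_spec (not_forall.1 (mt (eq_top_iff' _).2 hN))))) (h.sub (normalizer (Q' : Set E)))
    (fun hh => hy1 (congrArg Subtype.val (hh ⟨y, le_normalizer hyQ⟩ trivial v hv hyv))) rfl
  rwa [← relIndex, ← relIndex_sup_right, hF, relIndex_top_right] at this

end Cfsg.Lib.DG
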