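import Cfsg.Agent.Lib.DG.Cf

/-!
# Index of the derangement subgroup: small degree forces prime power degree
-/

set_option autoImplicit false

namespace Cfsg.Lib.DG

open Subgroup MulAction

universe u v

theorem Cf.cardD {G Ω : Type*} [Group G] [MulAction G Ω] {D : Subgroup G} (h : Cf Ω D) (a : Ω) :
    Nat.card D = Nat.card Ω * Nat.card (D ⊓ stabilizer G a : Subgroup G) := by
  haveI : IsPretransitive D Ω := ⟨fun a b => by
    obtain ⟨x, hx, e⟩ := h.tr a b; exact ⟨⟨x, hx⟩, e⟩⟩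
  rw [← index_mul_card (stabilizer D a), index_stabilizer_of_transitive,
    ← Nat.card_congr (subgroupOfEquivOfLe (inf_le_left : D ⊓ stabilizer G a ≤ D)).toEquiv,
    inf_subgroupOf_left]
  rfl

/-- Case (b). -/
theorem Cf.ppb {G Ω : Type*} [Group G] [Finite G] [MulAction G Ω] [Finite Ω] {D : Subgroup G}
    (h : Cf Ω D) (hD : D ≠ ⊤) {r : ℕ} [hr : Fact r.Prime] (hrn : r ∣ Nat.card Ω) (a : Ω)
    {U : Subgroup G} [hU : U.Normal] (hp : IsPGroup r U) (hUa : U ≤ D ⊓ stabilizer G a)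
    (hi : ¬ r ∣ U.relIndex (D ⊓ stabilizer G a)) :
    ∃ b, r ^ b ∣ Nat.card Ω ∧ D.index + 1 ≤ r ^ b := by
  haveI := h.nor
  haveI : Nonempty Ω := ⟨a⟩
  obtain ⟨P, hP⟩ := (hp.comap_of_injective D.subtype D.subtype_injective).exists_le_sylow
  have hM := P.normalizer_sup_eq_top
  have hRD := map_subtype_le (P : Subgroup D)
  have hpR := P.2.map D.subtype
  have hUR : U ≤ (P : Subgroup D).map D.subtype := fun x hx => ⟨⟨x, (hUa hx).1⟩, hP hx, rfl⟩
  have hc : Nat.card ((P : Subgroup D).map D.subtype) * (P : Subgroup D).index = Nat.card D := by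
    rw [card_map_of_injective D.subtype_injective, card_mul_index]
  have hPi := P.not_dvd_index
  set R := (P : Subgroup D).map D.subtype
  obtain ⟨l, hl⟩ := h.exO hD hM
  have h1 := h.dvd hl (fun x hx => hx.2) (mem_orbit_self (M := R) l) (by
    rintro x hx _ ⟨z, rfl⟩
    refine ⟨⟨x * z * x⁻¹, (mem_normalizer_iff.1 hx.1 _).1 z.2⟩, ?_⟩
    have e : x • l = l := hx.2
    simp only [smul_def]
    rw [mul_smul, mul_smul, inv_smul_eq_iff.2 e.symm])
  obtain ⟨b, hb⟩ := hpR.index (stabilizer R l)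
  have h2 := index_mul_card (stabilizer R l)
  have h3 : Nat.card (stabilizer R l) = Nat.card (R ⊓ stabilizer G l : Subgroup G) := by
    rw [← Nat.card_congr (subgroupOfEquivOfLe (inf_le_left : R ⊓ stabilizer G l ≤ R)).toEquiv,
      inf_subgroupOf_left]
    rfl
  have hUl : U ≤ R ⊓ stabilizer G l := le_inf hUR fun u hu => by
    obtain ⟨x, -, rfl⟩ := h.tr a l
    have : (x⁻¹ * u * x) • a = a := (hUa (by simpa using hU.conj_mem u hu x⁻¹)).2
    rwa [mul_smul, mul_smul, inv_smul_eq_iff] at this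
  have e1 := h.cardD a
  have e2 := h.cardD l
  have hn0 : 0 < Nat.card Ω := Nat.card_pos
  have e3 := Nat.eq_of_mul_eq_mul_left hn0 (e1.symm.trans e2)
  have e4 : U.relIndex (D ⊓ stabilizer G a) * Nat.card U =
      Nat.card (D ⊓ stabilizer G a : Subgroup G) := by
    rw [← Nat.card_congr (subgroupOfEquivOfLe hUa).toEquiv]
    exact index_mul_card _
  obtain ⟨k, hk⟩ := card_dvd_of_le hUl
  have hU0 : 0 < Nat.card U := Nat.card_pos
  have hk1 : k = 1 := by
    obtain ⟨m, hm⟩ := (hpR.to_le (inf_le_left : R ⊓ stabilizer G l ≤ R)).exists_card_eq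
    have d1 : k ∣ U.relIndex (D ⊓ stabilizer G a) := by
      have := card_dvd_of_le (inf_le_inf_right (stabilizer G l) hRD)
      rw [← e3, ← e4, hk, mul_comm] at this
      exact Nat.dvd_of_mul_dvd_mul_right hU0 this
    exact Nat.eq_one_of_dvd_coprimes ((hr.out.coprime_iff_not_dvd.2 hi).pow_left m)
      (hm ▸ hk ▸ dvd_mul_left _ _) d1
  rw [h3, hk, hk1, mul_one, hb] at h2
  have e5 : r ^ b * (P : Subgroup D).index = Nat.card Ω * U.relIndex (D ⊓ stabilizer G a) := by
    refine Nat.eq_of_mul_eq_mul_right hU0 ?_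
    rw [mul_assoc (Nat.card Ω), e4, ← e1, ← hc, ← h2]; ring
  rw [← index_stabilizer, hb] at h1
  refine ⟨b, ((hr.out.coprime_iff_not_dvd.2 hi).pow_left b).dvd_of_dvd_mul_right
    (e5 ▸ dvd_mul_right _ _), ?_⟩
  have hb0 : b ≠ 0 := by
    rintro rfl
    rw [pow_zero, one_mul] at e5
    exact hPi (e5 ▸ hrn.mul_right _)
  have := Nat.one_lt_pow hb0 hr.out.one_lt
  have := Nat.le_of_dvd (by omega) h1
  omega

/-- Strong induction on `|G|` (no faithfulness).  For each prime `r ∣ n` we show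
`d + 1 ≤ r ^ v_r(n)`; two distinct primes give `(d+1)^2 ≤ n`.  `U` = Sylow `r`-subgroup of `D_a`.
(a) `W = N(U) ≠ ⊤`: `W` acts on `F = Fix U`, `W ⊓ D` is transitive on `F` (Witt,
`Perm.exists_normalizer_eq_on` in `D`), `W_a` covers `G/D` (Frattini in `G_a`), `r ∣ |F|`
(`Perm.card_modEq_fixed`), by induction `|F| = r ^ b`, `d ∣ |F| - 1` (`Cf.dvd`), and
`|F| |U| ∣ |W ⊓ D| ∣ |D| = n |D_a|` gives `r ^ b ∣ n`.
(b) `U ⊴ G`: `R ≥ U` Sylow in `D`, `M = N(R)` covers `G/D` (Frattini), `Cf.exO` gives `l` with `M_l`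
covering; `R_l = U` (an `r`-subgroup of `D_l`, `|D_l| = |D_a|`, `U ≤ R_l`), the `R`-orbit of `l` has
size `|R : U| = r ^ v_r(n)` and is `M_l`-invariant: `Cf.dvd`. -/
theorem Cf.pp {G : Type u} {Ω : Type v} [Group G] [Finite G] [MulAction G Ω] [Finite Ω]
    {D : Subgroup G} (h : Cf Ω D) (hD : D ≠ ⊤) (h1 : 1 < Nat.card Ω)
    (hn : Nat.card Ω < (D.index + 1) ^ 2) : IsPrimePow (Nat.card Ω) := by
  induction hc : Nat.card G using Nat.strong_induction_on generalizing G Ω with
  | _ N ih =>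
  haveI := h.nor
  obtain ⟨a⟩ : Nonempty Ω := (Nat.card_pos_iff.1 (by omega)).1
  have key : ∀ r : ℕ, r.Prime → r ∣ Nat.card Ω → ∃ b, r ^ b ∣ Nat.card Ω ∧ D.index + 1 ≤ r ^ b := by
    intro r hr hrn
    haveI := Fact.mk hr
    set K := D.subgroupOf (stabilizer G a)
    obtain ⟨P⟩ : Nonempty (Sylow r K) := inferInstance
    have hF := P.normalizer_sup_eq_top
    set U0 := (P : Subgroup K).map K.subtype with hU0
    set U := U0.map (stabilizer G a).subtype with hU
    have hp : IsPGroup r U := (P.2.map _).map _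
    have hUa : U ≤ D ⊓ stabilizer G a := by
      rintro _ ⟨_, ⟨x, -, rfl⟩, rfl⟩; exact ⟨x.2, x.1.2⟩
    have hi : ¬ r ∣ U.relIndex (D ⊓ stabilizer G a) := by
      rw [← subgroupOf_map_subtype, hU, relIndex_map_map_of_injective _ _ (subtype_injective _)]
      have e := relIndex_map_map_of_injective (P : Subgroup K) ⊤ K.subtype_injective
      rw [← MonoidHom.range_eq_map, K.range_subtype, relIndex_top_right] at e
      exact e ▸ P.not_dvd_index
    by_cases hW : normalizer (U : Set G) = ⊤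
    · haveI := normalizer_eq_top_iff.1 hW
      exact h.ppb hD hrn a hp hUa hi
    set W := normalizer (U : Set G)
    have hWa : (W ⊓ stabilizer G a) ⊔ D = ⊤ := by
      refine eq_top_iff.2 (h.stab a ▸ sup_le (fun g hg => ?_) le_sup_right)
      obtain ⟨y, hy, δ, hδ, e⟩ := mem_sup_of_normal_right.1 (hF ▸ mem_top (⟨g, hg⟩ : stabilizer G a))
      have e' : (y : G) * δ = g := congrArg Subtype.val e
      rw [← e']
      refine mul_mem (mem_sup_left (mem_inf.2 ⟨mem_normalizer_fintype ?_, y.2⟩)) (mem_sup_right hδ)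
      rintro _ ⟨u, hu, rfl⟩
      exact ⟨_, (mem_normalizer_iff.1 hy u).1 hu, rfl⟩
    let T : SubMulAction W Ω := ⟨{x | ∀ u ∈ U, u • x = x}, fun n {x} hx =>
      Perm.smul_fixed_of_mem_normalizer n.2 hx⟩
    have haT : a ∈ T := fun u hu => (hUa hu).2
    have tr : ∀ x : T, ∃ n ∈ D.subgroupOf W, n • (⟨a, haT⟩ : T) = x := fun x => by
      obtain ⟨g, hg, e⟩ := h.tr a x
      obtain ⟨n, hn, e2⟩ := Perm.exists_normalizer_eq_on (G := D) (α := Ω) (p := r) (s := {a})
        (P := U.subgroupOf D) (hp.comap_of_injective D.subtype D.subtype_injective) (by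
          have : fixingSubgroup D ({a} : Set Ω) = (D ⊓ stabilizer G a).subgroupOf D := by
            ext y; simp [mem_fixingSubgroup_iff, mem_subgroupOf, smul_def]
          rwa [this, relIndex_subgroupOf inf_le_left]) (g := ⟨g, hg⟩) (by
          rintro _ rfl u hu
          simp only [smul_def, e]
          exact x.2 u hu)
      refine ⟨⟨n, mem_normalizer_fintype fun u hu => (mem_normalizer_iff.1 hn ⟨u, (hUa hu).1⟩).1 hu⟩,
        n.2, Subtype.ext ((e2 a rfl).trans e)⟩
    have hT : Cf T (D.subgroupOf W) := ⟨h.nor.subgroupOf W, fun x y => by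
        obtain ⟨m, hm, rfl⟩ := tr x
        obtain ⟨n, hn, rfl⟩ := tr y
        exact ⟨n * m⁻¹, mul_mem hn (inv_mem hm), by rw [mul_smul, inv_smul_smul]⟩,
      fun g x y hxy e1 e2 => h.two g x y (fun e => hxy (Subtype.ext e)) (congrArg Subtype.val e1)
        (congrArg Subtype.val e2)⟩
    have hix : (D.subgroupOf W).index = D.index := by
      have e : W ⊔ D = ⊤ := eq_top_iff.2 (hWa.ge.trans (sup_le_sup_right inf_le_left D))
      rw [← relIndex, ← relIndex_sup_right, e, relIndex_top_right]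
    have h2 : r ∣ Nat.card T :=
      (Perm.card_modEq_fixed (α := Ω) hp).dvd_iff dvd_rfl |>.1 hrn
    have h3 : 1 < Nat.card T := by
      haveI : Nonempty T := ⟨⟨a, haT⟩⟩
      exact lt_of_lt_of_le hr.one_lt (Nat.le_of_dvd Nat.card_pos h2)
    obtain ⟨q, b, hq, -, hb⟩ := (isPrimePow_nat_iff _).1 (ih _ (hc ▸ (Finite.card_subtype_lt
      (Classical.choose_spec (not_forall.1 (mt (eq_top_iff' _).2 hW))))) hT
      (fun e => hD (index_eq_one.1 (hix ▸ index_eq_one.2 e))) h3
      (hix ▸ lt_of_le_of_lt (Finite.card_subtype_le _) hn) rfl)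
    obtain rfl : r = q := (Nat.prime_dvd_prime_iff_eq hr hq).1 (hr.dvd_of_dvd_pow (hb ▸ h2))
    have h4 := h.dvd hWa (fun x hx => hx.2) (S := (T : Set Ω)) haT
      fun x hx b hb => T.smul_mem ⟨x, hx.1⟩ hb
    rw [← Nat.card_coe_set_eq] at h4
    refine ⟨b, ?_, hb ▸ by have := Nat.le_of_dvd (by change 0 < Nat.card T - 1; omega) h4; change _ ≤ Nat.card T - 1 at this; omega⟩
    have e1 := hT.cardD ⟨a, haT⟩
    have e2 := h.cardD a
    have e4 : U.relIndex (D ⊓ stabilizer G a) * Nat.card U =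
        Nat.card (D ⊓ stabilizer G a : Subgroup G) := by
      rw [← Nat.card_congr (subgroupOfEquivOfLe hUa).toEquiv]
      exact index_mul_card _
    have d1 : Nat.card U ∣ Nat.card (D.subgroupOf W ⊓ stabilizer W (⟨a, haT⟩ : T) : Subgroup W) := by
      rw [← Nat.card_congr (subgroupOfEquivOfLe (le_normalizer : U ≤ W)).toEquiv]
      exact card_dvd_of_le fun u hu => ⟨(hUa hu).1, Subtype.ext (hUa hu).2⟩
    have d2 : Nat.card (D.subgroupOf W) ∣ Nat.card D := by
      rw [← card_map_of_injective W.subtype_injective, subgroupOf_map_subtype]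
      exact card_dvd_of_le inf_le_left
    rw [e1, e2, ← e4, ← mul_assoc, ← hb] at d2
    exact ((hr.coprime_iff_not_dvd.2 hi).pow_left b).dvd_of_dvd_mul_right
      (Nat.dvd_of_mul_dvd_mul_right Nat.card_pos ((Nat.mul_dvd_mul_left _ d1).trans d2))
  rw [isPrimePow_iff_unique_prime_dvd]
  obtain ⟨r, hr, hrn⟩ := Nat.exists_prime_and_dvd h1.ne'
  refine ⟨r, ⟨hr, hrn⟩, fun q ⟨hq, hqn⟩ => ?_⟩
  by_contra hne
  obtain ⟨b, h2, h3⟩ := key r hr hrn
  obtain ⟨c, h4, h5⟩ := key q hq hqn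
  have := Nat.le_of_dvd (by omega) (Nat.Coprime.mul_dvd_of_dvd_of_dvd
    (Nat.coprime_pow_primes c b hq hr hne) h4 h2)
  have := Nat.mul_le_mul h5 h3
  rw [← sq] at this
  omega

end Cfsg.Lib.DG
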