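import Cfsg.Agent.Lib.DG.LA
import Cfsg.Agent.Lib.DG.T1
import Cfsg.Agent.Lib.DG.BT
import Cfsg.Agent.Lib.Perm.Centralizer

/-!
# Index of the derangement subgroup: the main theorem
-/

set_option autoImplicit false

namespace Cfsg.Lib.DG

open Subgroup MulAction

section
variable {G Ω : Type*} [Group G] [Finite G] [MulAction G Ω] [Finite Ω]

theorem sylow_tr [IsPretransitive G Ω] {r k : ℕ} [Fact r.Prime] (hn : Nat.card Ω = r ^ k)
    (P : Sylow r G) : IsPretransitive (P : Subgroup G) Ω := by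
  refine ⟨fun a b => ?_⟩
  have h1 : Nat.card Ω ∣ (stabilizer G a).relIndex P * (P : Subgroup G).index := by
    rw [← inf_relIndex_right, relIndex_mul_index inf_le_right, ← index_stabilizer_of_transitive G a]
    exact index_dvd_of_le inf_le_left
  have h2 : Nat.card Ω ∣ (orbit (P : Subgroup G) a).ncard := by
    rw [← index_stabilizer]
    refine Nat.Coprime.dvd_of_dvd_mul_right ?_ h1
    rw [hn]
    exact ((Fact.out : r.Prime).coprime_iff_not_dvd.2 P.not_dvd_index).pow_left k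
  have h3 := Set.eq_of_subset_of_ncard_le (Set.subset_univ (orbit (P : Subgroup G) a))
    (by rw [Set.ncard_univ]
        exact Nat.le_of_dvd ((Set.ncard_pos (Set.toFinite _)).2 (nonempty_orbit a)) h2)
  exact (h3 ▸ Set.mem_univ b : b ∈ orbit (P : Subgroup G) a)

omit [Finite G] [Finite Ω] in
theorem cov {D R M : Subgroup G} [D.Normal] (hR : IsPretransitive R Ω) (hRD : R ≤ D) (hRM : R ≤ M)
    (hM : M ⊔ D = ⊤) (a : Ω) : (M ⊓ stabilizer G a) ⊔ D = ⊤ := by
  refine eq_top_iff.2 (hM ▸ sup_le (fun m hm => ?_) le_sup_right)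
  obtain ⟨x, e⟩ := hR.exists_smul_eq a (m⁻¹ • a)
  have : m * x ∈ M ⊓ stabilizer G a := mem_inf.2 ⟨M.mul_mem hm (hRM x.2), by
    rw [mem_stabilizer_iff, mul_smul, ← smul_def, e, smul_inv_smul]⟩
  simpa using mul_mem (mem_sup_left this) (mem_sup_right (D.inv_mem (hRD x.2)) : _ ∈ _ ⊔ D)

variable [FaithfulSMul G Ω] {D : Subgroup G}

theorem Cf.comm (h : Cf Ω D) (h1 : 1 < Nat.card Ω) (hn : Nat.card Ω < (D.index + 1) ^ 2)
    {r k : ℕ} [hr : Fact r.Prime] (hk : Nat.card Ω = r ^ k) {R : Subgroup G} (hp : IsPGroup r R)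
    (hR : IsPretransitive R Ω) (hRD : R ≤ D) (hM : normalizer (R : Set G) ⊔ D = ⊤) :
    ∀ x ∈ R, ∀ y ∈ R, Commute x y := by
  haveI := h.nor
  haveI := Finite.one_lt_card_iff_nontrivial.1 h1
  obtain ⟨a, b, hab⟩ := exists_pair_ne Ω
  haveI : Nontrivial R := by
    obtain ⟨x, e⟩ := hR.exists_smul_eq a b
    exact ⟨x, 1, fun e1 => hab (by rw [← e, e1, one_smul])⟩
  haveI := hp.center_nontrivial
  obtain ⟨⟨z0, hz0⟩, hz1⟩ := exists_ne (1 : center R)
  set Z := R ⊓ centralizer (R : Set G)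
  have hz : (z0 : G) ∈ Z := ⟨z0.2, fun y hy => congrArg Subtype.val (mem_center_iff.1 hz0 ⟨y, hy⟩)⟩
  have h2 := h.dvd (cov hR hRD le_normalizer hM a) (fun x hx => hx.2) (mem_orbit_self (M := Z) a) (by
    rintro x hx _ ⟨z, rfl⟩
    refine ⟨⟨x * z * x⁻¹, (mem_normalizer_iff.1 hx.1 _).1 z.2.1, fun y hy => ?_⟩, ?_⟩
    · have := z.2.2 _ ((mem_normalizer_iff''.1 hx.1 y).1 hy)
      calc y * (x * z * x⁻¹) = x * (x⁻¹ * y * x * z) * x⁻¹ := by group
        _ = _ := by rw [this]; group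
    · have e : x • a = a := hx.2
      simp only [smul_def]
      rw [mul_smul, mul_smul, inv_smul_eq_iff.2 e.symm])
  have h3 := h.dvd (h.stab a) (fun x hx => hx) (Set.mem_univ a) fun _ _ _ _ => trivial
  rw [Set.ncard_univ] at h3
  have h4 : 1 < (orbit Z a).ncard := (Set.one_lt_ncard (Set.toFinite _)).2
    ⟨_, mem_orbit a ⟨z0, hz⟩, a, mem_orbit_self a, fun e =>
      hz1 (Subtype.ext (Subtype.ext (Perm.eq_one_of_centralizes hR hz.2 e)))⟩
  have h5 : (orbit Z a).ncard ≤ Nat.card Ω := Set.ncard_le_card _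
  obtain ⟨j, hj⟩ := (hp.to_le (inf_le_left : Z ≤ R)).index (stabilizer Z a)
  rw [index_stabilizer] at hj
  obtain ⟨y, hy⟩ : (orbit Z a).ncard ∣ Nat.card Ω := by
    rw [hj, hk] at h5 ⊢
    exact pow_dvd_pow _ ((Nat.pow_le_pow_iff_right hr.out.one_lt).1 h5)
  have hy1 : y = 1 := by
    by_contra hy1
    have hy0 : y ≠ 0 := by rintro rfl; omega
    have := sq_le_of_dvd h4 (y := y) (by omega) h2 (hy ▸ h3)
    omega
  have h6 := Set.eq_of_subset_of_ncard_le (Set.subset_univ (orbit Z a))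
    (by rw [Set.ncard_univ, hy, hy1, mul_one])
  have hZ : IsPretransitive Z Ω := (isPretransitive_iff_orbit_eq_univ a).2 h6
  have h7 := Perm.centralizer_eq_of_transitive hZ hR fun x hx z hz => (hz.2 x hx).symm
  have h8 := Perm.centralizer_eq_of_transitive hZ hZ fun x hx z hz => (hz.2 x hx.1).symm
  intro x hx y hy
  have : y ∈ Z := h8 ▸ h7.symm ▸ hy
  exact this.2 x hx

theorem Cf.sr (h : Cf Ω D) (hn : Nat.card Ω < (D.index + 1) ^ 2) {R : Subgroup G}
    (hc : ∀ x ∈ R, ∀ y ∈ R, Commute x y) (hR : IsPretransitive R Ω) (hRD : R ≤ D)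
    (hM : normalizer (R : Set G) ⊔ D = ⊤) {a : Ω} {x u : G} (hx : x ∈ normalizer (R : Set G))
    (hxa : x • a = a) (hu : u ∈ R) (hu1 : u ≠ 1) (hxu : x * u * x⁻¹ = u) : x = 1 := by
  haveI := h.nor
  letI : CommGroup R := { R.toGroup with mul_comm := fun x y => Subtype.ext (hc x x.2 y y.2).eq }
  set E := normalizer (R : Set G) ⊓ stabilizer G a
  letI : MulDistribMulAction E R :=
    MulDistribMulAction.compHom R (inclusion (inf_le_left : E ≤ normalizer (R : Set G)))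
  have sm : ∀ (x : E) (u : R), ((x • u : R) : G) = x * u * (x : G)⁻¹ := fun _ _ => rfl
  haveI : FaithfulSMul E R := ⟨fun {x y} e => by
    rw [← inv_mul_eq_one, eq_comm]
    refine (Subtype.ext (Perm.eq_one_of_centralizes hR (fun m hm => ?_) (a := a) (x⁻¹ * y).2.2)).symm
    have := congrArg Subtype.val (e ⟨m, hm⟩)
    rw [sm, sm] at this
    calc m * ((x⁻¹ * y : E) : G) = (x : G)⁻¹ * (x * m * (x : G)⁻¹) * y := by simp [mul_assoc]
      _ = _ := by rw [this]; simp [mul_assoc]⟩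
  have hfr : ∀ u ∈ R, u • a = a → u = 1 := fun u hu =>
    Perm.eq_one_of_centralizes hR fun m hm => (hc m hm u hu).eq
  have hL : La R (D.subgroupOf E) := ⟨h.nor.subgroupOf E, fun x u hu e => by
    have e1 := congrArg Subtype.val e
    rw [sm, mul_inv_eq_iff_eq_mul] at e1
    have e2 : (x : G) • a = a := x.2.2
    exact h.two x a ((u : G) • a) (fun e3 => hu (Subtype.ext (hfr u u.2 e3.symm))) e2
      (by rw [← mul_smul, e1, mul_smul, e2])⟩
  by_contra hx1
  have := hL.main fun hh => hx1 (congrArg Subtype.val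
    (hh ⟨x, hx, hxa⟩ trivial ⟨u, hu⟩ (fun e => hu1 (congrArg Subtype.val e)) (Subtype.ext hxu)))
  rw [← relIndex, ← relIndex_sup_right, cov hR hRD le_normalizer hM a, relIndex_top_right] at this
  have h2 := card_mul_index (stabilizer R a)
  have h3 : stabilizer R a = ⊥ := eq_bot_iff.2 fun u hu => mem_bot.2 (Subtype.ext (hfr u u.2 hu))
  rw [index_stabilizer_of_transitive, h3, card_bot, one_mul] at h2
  omega

omit [Finite Ω] in
theorem cen_le {r : ℕ} [hr : Fact r.Prime] {R : Subgroup G} (hp : IsPGroup r R) (hi : ¬ r ∣ R.index)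
    (hc : ∀ x ∈ R, ∀ y ∈ R, Commute x y) (hR : IsPretransitive R Ω) (a : Ω) {u : G} (hu : u ∈ R)
    (hs : ∀ x ∈ normalizer (R : Set G), x • a = a → x * u * x⁻¹ = u → x = 1) :
    centralizer ({u} : Set G) ≤ R := by
  set C := centralizer ({u} : Set G)
  have hRC : R ≤ C := fun x hx => mem_centralizer_singleton_iff.2 (hc x hx u hu).eq
  have hi' : ¬ r ∣ (R.subgroupOf C).index := fun e => hi (e.trans (relIndex_dvd_index_of_le hRC))
  let P := (hp.comap_of_injective C.subtype C.subtype_injective).toSylow hi'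
  have hP : normalizer ((P : Subgroup C) : Set C) ≤ centralizer ((P : Subgroup C) : Set C) := by
    intro g hg
    have h1 : (g : G) ∈ normalizer (R : Set G) := mem_normalizer_fintype fun y hy =>
      (mem_normalizer_iff.1 hg ⟨y, hRC hy⟩).1 hy
    obtain ⟨x, e⟩ := hR.exists_smul_eq a ((g : G) • a)
    have h2 := hs ((x : G)⁻¹ * g) (mul_mem (inv_mem (le_normalizer x.2)) h1)
      (by rw [mul_smul, ← e, smul_def, inv_smul_smul]) (by
        rw [mul_inv_eq_iff_eq_mul]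
        exact mem_centralizer_singleton_iff.1 (C.mul_mem (C.inv_mem (hRC x.2)) g.2))
    intro y hy
    exact Subtype.ext (hc y hy g (inv_mul_eq_one.1 h2 ▸ x.2)).eq
  have hK := MonoidHom.ker_transferSylow_isComplement' P hP
  haveI : IsPretransitive C Ω := ⟨fun a b => by
    obtain ⟨x, e⟩ := hR.exists_smul_eq a b
    exact ⟨⟨x, hRC x.2⟩, e⟩⟩
  have hS : IsComplement' (P : Subgroup C) (stabilizer C a) := isComplement'_stabilizer a
    (fun x e => Subtype.ext (Subtype.ext (Perm.eq_one_of_centralizes hR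
      (fun m hm => (hc m hm x.1 x.2).eq) e))) fun g => by
      obtain ⟨x, e⟩ := hR.exists_smul_eq (g • a) a
      exact ⟨⟨⟨x, hRC x.2⟩, x.2⟩, e⟩
  have h3 : stabilizer C a ≤ (MonoidHom.transferSylow P hP).ker := fun g hg => by
    obtain ⟨k, hk⟩ := P.2 (MonoidHom.transferSylow P hP g)
    have e1 : g ^ (P : Subgroup C).index = 1 := by
      rw [hS.symm.index_eq_card]
      exact congrArg Subtype.val (pow_card_eq_one' (x := (⟨g, hg⟩ : stabilizer C a)))
    have e2 : (MonoidHom.transferSylow P hP g) ^ (P : Subgroup C).index = 1 := by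
      rw [← map_pow, e1, map_one]
    exact orderOf_eq_one_iff.1 (Nat.eq_one_of_dvd_coprimes
      ((hr.out.coprime_iff_not_dvd.2 P.not_dvd_index).pow_left k)
      (orderOf_dvd_of_pow_eq_one hk) (orderOf_dvd_of_pow_eq_one e2))
  have h4 := eq_of_le_of_card_ge h3 (by rw [← hS.symm.index_eq_card, hK.index_eq_card])
  intro g hg
  obtain ⟨x, e⟩ := hR.exists_smul_eq a (g • a)
  have h5 : (⟨x, hRC x.2⟩ : C)⁻¹ * ⟨g, hg⟩ ∈ stabilizer C a := by
    rw [mem_stabilizer_iff, mul_smul, inv_smul_eq_iff]; exact e.symm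
  have h6 : (⟨x, hRC x.2⟩ : C)⁻¹ * ⟨g, hg⟩ = 1 := eq_of_smul_eq_smul (α := Ω) fun b => by
    obtain ⟨c, rfl⟩ := exists_smul_eq C a b
    have : c⁻¹ * ((⟨x, hRC x.2⟩ : C)⁻¹ * ⟨g, hg⟩) * c ∈ stabilizer C a := by
      rw [h4] at h5 ⊢
      simpa using (MonoidHom.normal_ker _).conj_mem _ h5 c⁻¹
    rw [mem_stabilizer_iff, mul_smul, mul_smul, inv_smul_eq_iff] at this
    rw [this, one_smul]
  have h7 : (x : G) = g := congrArg Subtype.val (inv_mul_eq_one.1 h6)
  exact h7 ▸ x.2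

end

theorem Cf.frob {G Ω : Type*} [Group G] [Finite G] [MulAction G Ω] [FaithfulSMul G Ω] [Finite Ω]
    {D : Subgroup G} (h : Cf Ω D) (hD : D ≠ ⊤) (h1 : 1 < Nat.card Ω)
    (hn : Nat.card Ω < (D.index + 1) ^ 2) :
    (∃ R : Subgroup G, R.Normal ∧ R ≠ ⊥ ∧ ∀ x ∈ R, ∀ y ∈ R, Commute x y) ∧
      ∀ (g : G) (a b : Ω), a ≠ b → g • a = a → g • b = b → g = 1 := by
  haveI := h.nor
  obtain ⟨r, k, hr, hk0, hk⟩ := (isPrimePow_nat_iff _).1 (h.pp hD h1 hn)
  haveI := Fact.mk hr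
  haveI := Finite.one_lt_card_iff_nontrivial.1 h1
  haveI : IsPretransitive D Ω := ⟨fun a b => by
    obtain ⟨x, hx, e⟩ := h.tr a b; exact ⟨⟨x, hx⟩, e⟩⟩
  obtain ⟨P⟩ : Nonempty (Sylow r D) := inferInstance
  have hP := sylow_tr hk.symm P
  have hR := Perm.isPretransitive_map_subtype hP
  have hM := P.normalizer_sup_eq_top
  have hRD := map_subtype_le (P : Subgroup D)
  have hp := P.2.map D.subtype
  set R := (P : Subgroup D).map D.subtype with hRdef
  have hc := h.comm h1 hn hk.symm hp hR hRD hM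
  obtain ⟨a, b, hab⟩ := exists_pair_ne Ω
  have hi : ¬ r ∣ R.index := by
    rw [hRdef, index_map_subtype, hr.dvd_mul, not_or]
    refine ⟨P.not_dvd_index, fun e => ?_⟩
    have h3 := h.dvd (h.stab a) (fun x hx => hx) (Set.mem_univ a) fun _ _ _ _ => trivial
    rw [Set.ncard_univ, ← hk] at h3
    exact hr.one_lt.ne' (Nat.dvd_one.1 ((Nat.dvd_sub_iff_right (Nat.one_le_pow _ _ hr.pos)
      (dvd_pow_self r hk0.ne')).1 (e.trans h3)))
  obtain ⟨g, hg, hgD⟩ : ∃ g ∈ stabilizer G a, g ∉ D := by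
    by_contra! hh
    exact hD (eq_top_iff.2 (h.stab a ▸ sup_le hh le_rfl))
  have hPn : (P : Subgroup D).Normal := bt (Ω := Ω) (P : Subgroup D)
    (fun x hx y hy => Subtype.ext (hc x ⟨x, hx, rfl⟩ y ⟨y, hy, rfl⟩).eq)
    (fun a b => by obtain ⟨x, e⟩ := hP.exists_smul_eq a b; exact ⟨x, x.2, e⟩)
    (fun u hu hu1 x hx => by
      obtain ⟨y, hy, e⟩ := cen_le hp hi hc hR a (u := u) ⟨u, hu, rfl⟩
        (fun x hx hxa e => h.sr hn hc hR hRD hM hx hxa ⟨u, hu, rfl⟩
          (fun e => hu1 (Subtype.ext e)) e) (x := x) (mem_centralizer_singleton_iff.2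
          (congrArg Subtype.val (mem_centralizer_singleton_iff.1 hx)))
      exact Subtype.ext e ▸ hy)
    (a := a) (b := b) (c := g • b) hab.symm
    (fun e => hab (by rw [← inv_smul_smul g b, e, eq_inv_smul_iff]; exact hg))
    fun x hx e => hgD ((D.mul_mem_cancel_left (D.inv_mem x.2)).1 (h.two _ a b hab
      (by rw [mul_smul, (hg : g • a = a), inv_smul_eq_iff]; exact hx.symm)
      (by rw [mul_smul, inv_smul_eq_iff]; exact e.symm)))
  haveI := P.characteristic_of_normal hPn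
  have hRn : R.Normal := inferInstance
  refine ⟨⟨R, hRn, fun e => ?_, hc⟩, fun g a b hab ha hb => ?_⟩
  · obtain ⟨⟨x, hx⟩, e1⟩ := hR.exists_smul_eq a b
    obtain rfl := mem_bot.1 (e ▸ hx)
    exact hab (by simpa using e1)
  obtain ⟨⟨u, hu⟩, e⟩ := hR.exists_smul_eq a b
  change u • a = b at e
  refine h.sr hn hc hR hRD hM (normalizer_eq_top R ▸ mem_top g) ha hu
    (fun e1 => hab (by rw [← e, e1, one_smul])) ?_
  rw [eq_comm, ← inv_mul_eq_one]
  refine Perm.eq_one_of_centralizes hR (fun m hm => (hc m hm _ (R.mul_mem (R.inv_mem hu)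
    (hRn.conj_mem u hu g))).eq) (a := a) ?_
  rw [mul_smul, mul_smul, mul_smul, inv_smul_eq_iff.2 ha.symm, e, hb, inv_smul_eq_iff, e]

end Cfsg.Lib.DG
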