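import Cfsg.Agent.Lib.DG.C2

/-!
# Index of the derangement subgroup: minimal non-semiregular `s`-groups
-/

set_option autoImplicit false

namespace Cfsg.Lib.DG

open Subgroup MulAction
open scoped commutatorElement

variable {B V : Type*} [Group B] [CommGroup V] [MulDistribMulAction B V] [Finite B] [Finite V]
  {s d : ℕ} {v0 : V}

/-- `C` semiregular of index `≤ s`: every stabilizer `B_w` meets `C` trivially, so `|B_w| ≤ s`,
`a = s`, `|B : C| = s`.  For `1 ≠ y ∈ B_w` (`w ∈ S`): `B_u = zpowers y` for all `1 ≠ u` fixed by `y`;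
`y ∉ Z(B)`, so `zpowers y` is not normal (normal of order `s` is central), some conjugate `y'` is
outside `zpowers y`, the fixed subgroups of `y`, `y'` have equal order `κ_y` and meet trivially:
`κ_y ^ 2 ≤ |V|`.  Count pairs `(w, y)`, `w ∈ S`, `1 ≠ y ∈ B_w` (so `y ∈ B \ C`):
`(s - 1) |S| ≤ (|B| - |C|) (κ - 1) = (s - 1) |C| (κ - 1)` with `κ = Nat.sqrt |V|`.
So `d |B| ≤ s |C| (κ - 1)`, `d ≤ κ - 1`. -/
theorem Pg.ix (h : Pg B s v0 d) {C : Subgroup B} (hC : Sr V C) (hi : C.index ≤ s) :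
    (d + 1) ^ 2 ≤ Nat.card V := by
  classical
  haveI := Fact.mk h.pr
  have := Fintype.ofFinite B
  have := Fintype.ofFinite V
  have hle : ∀ w : V, w ≠ 1 → Nat.card (stabilizer B w) ≤ C.index := fun w hw => by
    have e : C.subgroupOf (stabilizer B w) = ⊥ :=
      eq_bot_iff.2 fun x hx => mem_bot.2 (Subtype.ext (hC x hx w hw x.2))
    rw [← index_bot, ← e, ← relIndex_top_right C]
    exact relIndex_le_of_le_right le_top index_ne_zero_of_finite
  have hge : ∀ H : Subgroup B, H ≠ ⊥ → s ≤ Nat.card H := fun H hH => by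
    obtain ⟨n, hn0, hn⟩ := (h.pg.to_subgroup H).nontrivial_iff_card.1 ((nontrivial_iff_ne_bot H).2 hH)
    rw [hn]; exact Nat.le_self_pow hn0.ne' s
  have ha : Nat.card (stabilizer B v0) = s := le_antisymm ((hle v0 h.v1).trans hi) (hge _ h.nb)
  have hCi : C.index = s := le_antisymm hi (ha ▸ hle v0 h.v1)
  have hst : ∀ (y : B) (u : V), y ≠ 1 → u ≠ 1 → y • u = u → zpowers y = stabilizer B u :=
    fun y u hy hu e => eq_of_le_of_card_ge (zpowers_le.2 e)
      ((hle u hu).trans (hi.trans (hge _ (zpowers_ne_bot.2 hy))))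
  have hk : ∀ (y : B) (w : V), y ≠ 1 → w ≠ 1 → y • w = w →
      Nat.card (fx V (zpowers y)) ≤ Nat.sqrt (Nat.card V) := fun y w hy hw e => by
    obtain ⟨g, hg⟩ : ∃ g : B, g * y * g⁻¹ ∉ zpowers y := by
      by_contra! hh
      haveI : (zpowers y).Normal := ⟨by
        rintro _ ⟨k, rfl⟩ g
        rw [← conj_zpow]; exact zpow_mem (hh g) k⟩
      haveI := h.pg.isNilpotent
      obtain ⟨⟨z, hz1, hz2⟩, hz⟩ := ne_bot_iff_exists_ne_one.1
        (PGroup.normal_inf_center_ne_bot (zpowers y) (zpowers_ne_bot.2 hy))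
      exact hz (Subtype.ext (h.zs z hz2 w hw ((zpowers_le.2 e : zpowers y ≤ stabilizer B w) hz1)))
    rw [Nat.le_sqrt, ← Nat.card_prod]
    refine Nat.card_le_card_of_injective
      (fun p : fx V (zpowers y) × fx V (zpowers y) => (p.1 : V) * g • (p.2 : V)) ?_
    rintro ⟨a, b⟩ ⟨c, e⟩ h1
    have h2 : ((c⁻¹ * a : fx V (zpowers y)) : V) = g • ((e * b⁻¹ : fx V (zpowers y)) : V) := by
      simp only [coe_mul, coe_inv, smul_mul', smul_inv'] at h1 ⊢
      rw [inv_mul_eq_iff_eq_mul, ← mul_assoc, ← h1, mul_inv_cancel_right]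
    have h3 : ((c⁻¹ * a : fx V (zpowers y)) : V) = 1 := by
      by_contra h3
      refine hg (hst y _ hy h3 ((c⁻¹ * a).2 y (mem_zpowers y)) ▸ ?_)
      rw [mem_stabilizer_iff, h2, mul_smul, inv_smul_smul, mul_smul, (e * b⁻¹).2 y (mem_zpowers y)]
    have h4 : c = a := inv_mul_eq_one.1 (Subtype.ext h3)
    subst h4
    rw [Subtype.ext (smul_left_cancel g (mul_left_cancel h1) : (b : V) = e)]
  have h1 := Finset.card_mul_le_card_mul (fun (w : V) (y : B) => y • w = w)
    (s := Finset.univ.filter fun w : V => w ≠ 1 ∧ Nat.card (stabilizer B w) = Nat.card (stabilizer B v0))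
    (t := Finset.univ.filter (· ∉ C)) (m := s - 1) (n := Nat.sqrt (Nat.card V) - 1)
    (fun w hw => by
      obtain ⟨hw1, hw2⟩ := (Finset.mem_filter.1 hw).2
      rw [← ha, ← hw2, ← SetLike.coe_sort_coe, Nat.card_coe_set_eq,
        ← Set.ncard_sdiff_singleton_of_mem (stabilizer B w).one_mem, ← Set.ncard_coe_finset]
      exact Set.ncard_le_ncard fun y hy => by
        simpa [Finset.bipartiteAbove] using ⟨fun hyC => hy.2 (hC y hyC w hw1 hy.1), hy.1⟩)
    fun y hy => by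
      have hy1 : y ≠ 1 := fun e => (Finset.mem_filter.1 hy).2 (e ▸ C.one_mem)
      rcases Finset.eq_empty_or_nonempty (Finset.bipartiteBelow (fun (w : V) (y : B) => y • w = w)
        (Finset.univ.filter fun w : V =>
          w ≠ 1 ∧ Nat.card (stabilizer B w) = Nat.card (stabilizer B v0)) y) with e | ⟨w, hw⟩
      · rw [e]; exact Nat.zero_le _
      simp only [Finset.mem_bipartiteBelow, Finset.mem_filter] at hw
      refine le_trans ?_ (Nat.sub_le_sub_right (hk y w hy1 hw.1.2.1 hw.2) 1)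
      rw [← SetLike.coe_sort_coe (fx V (zpowers y)), Nat.card_coe_set_eq,
        ← Set.ncard_sdiff_singleton_of_mem (fx V (zpowers y)).one_mem, ← Set.ncard_coe_finset]
      refine Set.ncard_le_ncard fun u hu => ?_
      simp only [Finset.mem_coe, Finset.mem_bipartiteBelow, Finset.mem_filter] at hu
      exact ⟨fun x hx => (zpowers_le.2 hu.2 : zpowers y ≤ stabilizer B u) hx, hu.1.2.1⟩
  have h2 := h.hd
  rw [Set.ncard_eq_toFinset_card', Set.toFinset_setOf] at h2
  have h3 := Finset.card_filter_add_card_filter_not (s := Finset.univ) (· ∈ C)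
  have h4 := C.index_mul_card
  rw [Finset.card_univ, ← Nat.card_eq_fintype_card, ← Fintype.card_subtype,
    ← Nat.card_eq_fintype_card, ← h4, hCi] at h3
  rw [← h4, hCi] at h2
  conv at h2 => rhs; lhs; rw [ha]
  have hs := h.pr.two_le
  have hC0 : 0 < Nat.card C := Nat.card_pos
  have hV : 0 < Nat.sqrt (Nat.card V) := Nat.sqrt_pos.2 Nat.card_pos
  obtain ⟨t, rfl⟩ : ∃ t, s = t + 1 := ⟨s - 1, by omega⟩
  have h5 : (Finset.univ.filter (· ∉ C)).card = Nat.card C * t := by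
    rw [add_mul, one_mul, mul_comm] at h3; omega
  rw [h5, Nat.add_sub_cancel, mul_right_comm] at h1
  have h6 := Nat.le_of_mul_le_mul_right h1 (by omega)
  have h7 : d * ((t + 1) * Nat.card C) ≤ (Nat.sqrt (Nat.card V) - 1) * ((t + 1) * Nat.card C) :=
    h2.trans (le_of_le_of_eq (Nat.mul_le_mul_left _ h6) (by ring))
  have h8 := Nat.le_of_mul_le_mul_right h7 (by positivity)
  exact Nat.le_sqrt'.1 (by omega)

/-- `B1 = {x | x ^ s ∈ Z, [x, B] ≤ Z}`, a characteristic subgroup. -/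
def b1 (B : Type*) [Group B] (s : ℕ) : Subgroup B where
  carrier := {x | x ^ s ∈ center B ∧ ∀ g : B, ⁅g, x⁆ ∈ center B}
  mul_mem' := fun {x y} hx hy => by
    have q : ∀ a : B, a ∈ center B ↔ QuotientGroup.mk' (center B) a = 1 := fun a =>
      (QuotientGroup.eq_one_iff a).symm
    simp only [Set.mem_setOf_eq, q, map_pow, map_commutatorElement, map_mul,
      commutatorElement_eq_one_iff_commute] at hx hy ⊢
    exact ⟨by rw [(hy.2 x).mul_pow, hx.1, hy.1, one_mul], fun g => (hx.2 g).mul_right (hy.2 g)⟩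
  one_mem' := by simp
  inv_mem' := fun {x} hx => by
    have q : ∀ a : B, a ∈ center B ↔ QuotientGroup.mk' (center B) a = 1 := fun a =>
      (QuotientGroup.eq_one_iff a).symm
    simp only [Set.mem_setOf_eq, q, map_pow, map_commutatorElement, map_inv,
      commutatorElement_eq_one_iff_commute] at hx ⊢
    exact ⟨by rw [inv_pow, hx.1, inv_one], fun g => (hx.2 g).inv_right⟩

instance b1_char (B : Type*) [Group B] (s : ℕ) : (b1 B s).Characteristic :=
  characteristic_iff_le_comap.2 fun φ x hx => by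
    have q := characteristic_iff_le_comap.1 (inferInstance : (center B).Characteristic) φ
    refine ⟨by simpa using q hx.1, fun g => ?_⟩
    simpa [map_commutatorElement] using q (hx.2 (φ.symm g))

/-- A nonabelian `s`-group has `b1 > Z` (take an element of order `s` in `Z(B / Z)`). -/
theorem exists_b1 {B : Type*} [Group B] [Finite B] {s : ℕ} (hs : s.Prime) (hp : IsPGroup s B)
    (hn : center B ≠ ⊤) : ∃ x ∈ b1 B s, x ∉ center B := by
  haveI := Fact.mk hs
  haveI : Nontrivial (B ⧸ center B) := QuotientGroup.nontrivial_iff.2 hn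
  obtain ⟨x, -, h1, h2⟩ := PGroup.exists_mem_center_orderOf_eq (hp.to_quotient (center B)) ⊤ top_ne_bot
  obtain ⟨x, rfl⟩ := QuotientGroup.mk_surjective x
  refine ⟨x, ⟨(QuotientGroup.eq_one_iff _).1 ?_, fun g => (QuotientGroup.eq_one_iff _).1 ?_⟩, fun e => ?_⟩
  · rw [QuotientGroup.mk_pow, ← h2, pow_orderOf_eq_one]
  · exact (map_commutatorElement (QuotientGroup.mk' (center B)) g x).trans
      (commutatorElement_eq_one_iff_mul_comm.2 (mem_center_iff.1 h1 _))
  · rw [(QuotientGroup.eq_one_iff x).2 e, orderOf_one] at h2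
    exact hs.one_lt.ne h2

/-- `Z = Z(B)` is cyclic, nontrivial, `B` is nonabelian (not semiregular).  If `B1 = ⊤` use `c2`.
Otherwise `B1` is semiregular, so (`Sr.mem_zp` with a central `z` of order `s`) every `u ∈ B1` with
`u ^ s = 1` is central.  `C = C_B(B1)` is characteristic and proper, so semiregular.  Fix
`x ∈ B1 \ Z`; `[g, x] ^ s = [g, x ^ s] = 1`.  If `B1 ≤ ⟨x⟩ Z` then `C = C_B(x)` has index `≤ s`
(`FGS.index_centralizer_le_card` with `zpowers z`), use `ix`.  For `y ∈ B1 \ Z`, `y ^ s` is not an `s`-th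
power in `Z` (else `y z⁻¹` has order `s`), so it generates `Z`; hence for `y ∈ B1`, `y ^ s = x ^ (k s)`,
`u = x^(-k) y` has `u ^ s = c ^ (s choose 2)`, `c ^ s = 1`, `c ∈ Z`.  `s` odd: `u ^ s = 1`;
`s = 2`, `|Z| ≥ 4`: `c` is a square in `Z`; in both cases `u ∈ Z`, `B1 ≤ ⟨x⟩ Z`.
`s = 2 = |Z|`, `B1 ≰ ⟨x⟩ Z`: all `y ∈ B1 \ Z` have `y ^ 2 = z`, so `y, y'` with `y, y', y y' ∉ Z` do not
commute; `C ⊓ B1 = Z`; `|B : C| = |B1 : Z|` (`FGS.relIndex_centralizer_eq_of_cyclic`), so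
`B = B1 C`, `Z(C) ≤ Z`; `C ≠ Z` (else `B = B1`), so `C` is nonabelian; `exists_b1` for `C` gives
`e ∈ C \ Z` with `e ∈ B1`: contradiction. -/
theorem Pg.main (h : Pg B s v0 d)
    (hch : ∀ C : Subgroup B, C.Characteristic → C ≠ ⊤ → Sr V C) : (d + 1) ^ 2 ≤ Nat.card V := by
  haveI := Fact.mk h.pr
  haveI : Nontrivial V := ⟨_, _, h.v1⟩
  obtain ⟨⟨y0, hy0⟩, hy1⟩ := ne_bot_iff_exists_ne_one.1 h.nb
  have hn : center B ≠ ⊤ := fun e => hy1 (Subtype.ext (h.zs y0 (e ▸ mem_top y0) v0 h.v1 hy0))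
  have cm : ∀ c ∈ center B, ∀ g : B, Commute c g := fun c hc g => (mem_center_iff.1 hc g).symm
  have hZc : IsCyclic (center B) := h.zs.cyc h.pr (h.pg.to_subgroup _) fun x hx y _ => cm x hx y
  haveI : Nontrivial B := ⟨y0, 1, fun e => hy1 (Subtype.ext e)⟩
  obtain ⟨z, -, hz, hzo⟩ := PGroup.exists_mem_center_orderOf_eq h.pg ⊤ top_ne_bot
  have hzs : z ^ s = 1 := hzo ▸ pow_orderOf_eq_one z
  have hz1 : z ≠ 1 := fun e => h.pr.one_lt.ne (by rw [← hzo, e, orderOf_one])
  by_cases hb : b1 B s = ⊤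
  · exact h.c2 (fun x y => (hb ▸ mem_top y : y ∈ b1 B s).2 x) fun x => (hb ▸ mem_top x : x ∈ b1 B s).1
  have hS := hch _ inferInstance hb
  have hZb : center B ≤ b1 B s := fun c hc => ⟨pow_mem hc s, fun g => by
    rw [commutatorElement_eq_one_iff_commute.2 (cm c hc g).symm]; exact one_mem _⟩
  have h1 : ∀ u ∈ b1 B s, u ^ s = 1 → u ∈ zpowers z := fun u hu e =>
    hS.mem_zp h.pr hu (hZb hz) (cm z hz u).symm e hzs hz1
  have hcom : ∀ x ∈ b1 B s, ∀ g : B, ⁅g, x⁆ ∈ zpowers z := fun x hx g => h1 _ (hZb (hx.2 g)) (by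
    rw [← PGroup.commutator_pow_right_of_commute (cm _ (hx.2 g) x).symm]
    exact commutatorElement_eq_one_iff_commute.2 (cm _ hx.1 g).symm)
  have gen : ∀ u ∈ b1 B s, ∀ c ∈ center B, u ^ s = c ^ s → u ∈ center B := fun u hu c hc e => by
    have := zpowers_le.2 hz (h1 (c⁻¹ * u) (mul_mem (inv_mem (hZb hc)) hu)
      (by rw [(cm c hc u).inv_left.mul_pow, e, inv_pow, inv_mul_cancel]))
    exact (mul_mem_cancel_left (inv_mem hc)).1 this
  obtain ⟨x, hx, hxZ⟩ := exists_b1 h.pr h.pg hn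
  set C := centralizer (b1 B s : Set B) with hCd
  have hC : Sr V C := hch C inferInstance fun e =>
    hxZ (mem_center_iff.2 fun g => ((e ▸ mem_top g : g ∈ C) x hx).symm)
  by_cases hA : ∀ y ∈ b1 B s, ∃ k : ℕ, (x ^ k)⁻¹ * y ∈ center B
  · refine h.ix (C := centralizer {x}) (hC.mono fun g hg y hy => ?_) ?_
    · obtain ⟨k, hk⟩ := hA y hy
      have e : Commute x g := (mem_centralizer_singleton_iff.1 hg).symm
      simpa using ((e.pow_left k).mul_left (cm _ hk g)).eq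
    · rw [← hzo, ← Nat.card_zpowers]
      exact FGS.index_centralizer_le_card (hcom x hx)
  push Not at hA
  obtain ⟨y, hy, hA⟩ := hA
  exfalso
  obtain ⟨ζ, hζ⟩ := hZc.exists_monoid_generator
  have pw : ∀ c ∈ center B, ∃ k : ℕ, (ζ : B) ^ k = c := fun c hc => by
    obtain ⟨k, hk⟩ := hζ ⟨c, hc⟩
    exact ⟨k, congrArg Subtype.val hk⟩
  have gn : ∀ c ∈ center B, (∀ e ∈ center B, c ≠ e ^ s) → ∀ e ∈ center B, ∃ k : ℕ, c ^ k = e := by
    intro c hc hne e he
    obtain ⟨m, rfl⟩ := pw c hc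
    obtain ⟨k, rfl⟩ := pw e he
    obtain ⟨j, hj⟩ := h.pg (ζ : B)
    have hm : ¬ s ∣ m := by
      rintro ⟨m, rfl⟩
      exact hne _ (pow_mem ζ.2 m) (by rw [← pow_mul, mul_comm])
    obtain ⟨l, hl⟩ := exists_pow_eq_self_of_coprime (x := (ζ : B)) (n := m)
      (((h.pr.coprime_iff_not_dvd.2 hm).symm.pow_right j).coprime_dvd_right
        (orderOf_dvd_of_pow_eq_one hj))
    exact ⟨l * k, by rw [pow_mul, hl]⟩
  obtain ⟨k, hk⟩ := gn _ hx.1 (fun e he e1 => hxZ (gen x hx e he e1)) _ hy.1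
  have hu : (x ^ k)⁻¹ * y ∈ b1 B s := mul_mem (inv_mem (pow_mem hx k)) hy
  have hc : ⁅y, (x ^ k)⁻¹⁆ ∈ zpowers z := hcom _ (inv_mem (pow_mem hx k)) y
  have hcZ := zpowers_le.2 hz hc
  have hus : ((x ^ k)⁻¹ * y) ^ s = ⁅y, (x ^ k)⁻¹⁆ ^ s.choose 2 := by
    rw [PGroup.mul_pow_of_commute_commutator (cm _ hcZ _).symm (cm _ hcZ _).symm, ← hk, inv_pow,
      ← pow_mul, ← pow_mul, mul_comm k s, inv_mul_cancel_right]
  have hcs : ⁅y, (x ^ k)⁻¹⁆ ^ s = 1 := by
    obtain ⟨j, hj⟩ := hc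
    rw [← hj, ← zpow_natCast, ← zpow_mul, mul_comm, zpow_mul, zpow_natCast, hzs, one_zpow]
  obtain rfl : s = 2 := by
    by_contra hs2
    obtain ⟨m, hm⟩ := h.pr.dvd_choose_self two_ne_zero (lt_of_le_of_ne h.pr.two_le (Ne.symm hs2))
    exact hA k (gen _ hu 1 (one_mem _) (by rw [hus, hm, pow_mul, hcs, one_pow, one_pow]))
  have two : ∀ c ∈ zpowers z, c = 1 ∨ c = z := fun c hc => by
    classical
    rw [mem_zpowers_iff_mem_range_orderOf, hzo] at hc
    simp only [Finset.mem_image, Finset.mem_range] at hc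
    obtain ⟨j, hj, rfl⟩ := hc
    interval_cases j <;> simp
  have hZ2 : ∀ c ∈ center B, c = 1 ∨ c = z := fun c hc' => by
    obtain ⟨j, rfl⟩ := gn z hz (fun e he e1 => hA k (by
      rcases two _ hc with e2 | e2
      · exact gen _ hu 1 (one_mem _) (by rw [hus, e2]; simp)
      · exact gen _ hu e he (by rw [hus, e2, e1]; simp))) c hc'
    exact two _ (pow_mem (mem_zpowers z) j)
  have sq : ∀ u ∈ b1 B 2, u ∉ center B → u ^ 2 = z := fun u hu hu1 =>
    (hZ2 _ hu.1).resolve_left fun e => hu1 (gen u hu 1 (one_mem _) (by rw [e, one_pow]))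
  have hCb : ∀ u ∈ b1 B 2, u ∈ C → u ∈ center B := fun u hu huC => by
    by_contra hu1
    have key : ∀ v ∈ b1 B 2, v ∉ center B → v * u ∈ center B := fun v hv hv1 =>
      gen _ (mul_mem hv hu) 1 (one_mem _) (by
        rw [Commute.mul_pow (huC v hv), sq v hv hv1, sq u hu hu1, ← pow_two, hzs, one_pow])
    have e1 := mul_mem (key y hy (by simpa using hA 0)) (inv_mem (key x hx hxZ))
    refine hA 1 ?_
    have e2 := (inferInstance : (center B).Normal).conj_mem _ e1 x⁻¹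
    simpa [mul_assoc] using e2
  have i1 := FGS.relIndex_centralizer_eq_of_cyclic (A := ⊤) (B := b1 B 2) hZc
    (commutator_le.2 fun g _ x hx => hx.2 g) (fun c hc g _ => (cm c hc g).eq.symm)
    fun c hc g _ => (cm c hc g).eq.symm
  have i2 : (centralizer ((⊤ : Subgroup B) : Set B)).relIndex (b1 B 2) = C.relIndex (b1 B 2) := by
    rw [← inf_relIndex_right, ← inf_relIndex_right C]
    congr 1
    exact le_antisymm (inf_le_inf_right _ (centralizer_le (Set.subset_univ _)))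
      fun u hu => ⟨fun g _ => mem_center_iff.1 (hCb u hu.2 hu.1) g, hu.2⟩
  have i3 := relIndex_mul_index (le_sup_right : C ≤ b1 B 2 ⊔ C)
  rw [relIndex_sup_right, ← i2, ← i1, relIndex_top_right, ← hCd] at i3
  have i4 : b1 B 2 ⊔ C = ⊤ := index_eq_one.1
    (Nat.eq_of_mul_eq_mul_left (Nat.pos_of_ne_zero index_ne_zero_of_finite) (i3.trans (mul_one _).symm))
  have dec : ∀ g : B, ∃ b ∈ b1 B 2, ∃ c ∈ C, b * c = g := fun g =>
    mem_sup_of_normal_right.1 (i4 ▸ mem_top g)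
  have zz : ∀ c ∈ center C, (c : B) ∈ center B := fun c hc => mem_center_iff.2 fun g => by
    obtain ⟨b, hb, e, he, rfl⟩ := dec g
    have e1 : e * c = c * e := congrArg Subtype.val (mem_center_iff.1 hc ⟨e, he⟩)
    rw [mul_assoc, e1, ← mul_assoc, c.2 b hb, mul_assoc]
  obtain ⟨e, he, he1⟩ := exists_b1 h.pr (h.pg.to_subgroup C) fun e1 => hb (by
    rw [← i4, eq_comm, sup_eq_left]
    exact fun c hc => hZb (zz ⟨c, hc⟩ (e1 ▸ mem_top _)))
  have h5 : (e : B) ∈ b1 B 2 := ⟨zz _ he.1, fun g => by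
    obtain ⟨b, hb, c, hc, rfl⟩ := dec g
    have e1 : ⁅c, (e : B)⁆ ∈ center B := zz _ (he.2 ⟨c, hc⟩)
    have e2 : ⁅b * c, (e : B)⁆ = b * ⁅c, (e : B)⁆ * b⁻¹ * ⁅b, (e : B)⁆ := by
      simp only [commutatorElement_def]; group
    rw [e2, commutatorElement_eq_one_iff_mul_comm.2 (e.2 b hb), mul_one]
    exact (inferInstance : (center B).Normal).conj_mem _ e1 b⟩
  exact he1 (mem_center_iff.2 fun g => Subtype.ext (mem_center_iff.1 (hCb e h5 e.2) g))

end Cfsg.Lib.DG
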